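import Groth.Agent.Lib.ChartLift16.Cat
import Groth.Agent.Lib.SpQuot16.Yon

/-!
# Lifts of a map of sheaves on pulled back finite etale covers, as a sheaf
-/

universe u

open CategoryTheory CategoryTheory.Limits AlgebraicGeometry Opposite

set_option linter.style.haveILetI false
set_option linter.unusedSectionVars false
set_option backward.isDefEq.respectTransparency false
set_option backward.isDefEq.respectTransparency.types false

namespace Groth.Agent.ChartLift16

open AlgSp

variable {S : Scheme.{u}} {C D T : Over S} (dPr : D ⟶ C) {F : Sp S} (a : F ⟶ (yon S).obj T)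

/-- a point of the base and a lift on the pulled back cover -/
structure PSec (T' : Over S) : Type (u + 1) where
  /-- the point of the base -/
  g : T' ⟶ T
  /-- the parameter -/
  c : T' ⟶ C
  /-- the lift -/
  l : (yon S).obj (dObj dPr c) ⟶ F
  hl : l ≫ a = (yon S).map (dfst dPr c ≫ g)

variable {dPr a}

theorem dmap_id_id {T' : Over S} {c c' : T' ⟶ C} (h : 𝟙 T' ≫ c = c') (hc : c = c') :
    HEq (dmap (dPr := dPr) (𝟙 T') h) (𝟙 (dObj dPr c)) := by
  subst hc
  rw [dmap_eq_id rfl]

theorem PSec.ext' {T' : Over S} {s s' : PSec dPr a T'} (hg : s.g = s'.g) (hc : 𝟙 T' ≫ s.c = s'.c)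
    (hl : (yon S).map (dmap (𝟙 T') hc) ≫ s.l = s'.l) : s = s' := by
  obtain ⟨g, c, l, hla⟩ := s
  obtain ⟨g', c', l', hla'⟩ := s'
  obtain rfl : g = g' := hg
  obtain rfl : c = c' := (Category.id_comp c).symm.trans hc
  rw [dmap_eq_id rfl, CategoryTheory.Functor.map_id, Category.id_comp] at hl
  obtain rfl : l = l' := hl
  rfl

theorem PSec.l_eq {T' : Over S} {s s' : PSec dPr a T'} (h : s = s') (hc : 𝟙 T' ≫ s.c = s'.c) :
    (yon S).map (dmap (𝟙 T') hc) ≫ s.l = s'.l := by
  subst h
  rw [dmap_eq_id rfl, CategoryTheory.Functor.map_id, Category.id_comp]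

variable (dPr a)

/-- restriction -/
noncomputable abbrev PSec.res {T' T'' : Over S} (f : T'' ⟶ T') (s : PSec dPr a T') : PSec dPr a T'' where
  g := f ≫ s.g
  c := f ≫ s.c
  l := (yon S).map (dmap f rfl) ≫ s.l
  hl := by
    rw [Category.assoc, s.hl, ← Functor.map_comp, ← Category.assoc, dmap_fst, Category.assoc]

variable {dPr a}

theorem PSec.res_id {T' : Over S} (s : PSec dPr a T') : PSec.res dPr a (𝟙 T') s = s := by
  refine PSec.ext' (Category.id_comp _) (by simp) ?_
  rw [← Functor.map_comp_assoc]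
  convert Category.id_comp s.l using 2
  rw [← (yon S).map_id]
  congr 1
  apply pullback.hom_ext <;> simp

theorem PSec.res_res {T₁ T₂ T₃ : Over S} (f : T₂ ⟶ T₁) (g : T₃ ⟶ T₂) (s : PSec dPr a T₁) :
    PSec.res dPr a (g ≫ f) s = PSec.res dPr a g (PSec.res dPr a f s) := by
  refine PSec.ext' (Category.assoc g f s.g) (by simp) ?_
  show (yon S).map _ ≫ (yon S).map _ ≫ s.l = (yon S).map _ ≫ (yon S).map _ ≫ s.l
  rw [← Functor.map_comp_assoc, ← Functor.map_comp_assoc]
  congr 2
  apply pullback.hom_ext <;> simp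

variable (dPr a)

/-- the presheaf of lifts -/
noncomputable def pPsh : PSp S where
  obj T' := PSec dPr a T'.unop
  map {T' T''} f := ↾fun s => PSec.res dPr a f.unop s
  map_id T' := by
    ext s
    exact PSec.res_id s
  map_comp {T₁ T₂ T₃} f g := by
    ext s
    exact PSec.res_res f.unop g.unop s

theorem pPsh_isSheaf : Presieve.IsSheaf (AlgSp.J S) (pPsh dPr a) := by
  intro T' R hR x hx
  have hcomp : ∀ {Z Z' : Over S} (m : Z' ⟶ Z) (h : Z ⟶ T') (hh : R h),
      PSec.res dPr a m (x h hh) = x (m ≫ h) (R.downward_closed hh m) := fun m h hh =>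
    ((Presieve.compatible_iff_sieveCompatible x).1 hx h m hh).symm
  obtain ⟨gy, hgy, hgu⟩ := SpQuot16.existsUnique_glue hR (F := (yon S).obj T)
    (fun h hh => (yon S).map (x h hh).g) (fun m h hh => by rw [← Functor.map_comp, ← hcomp m h hh])
  obtain ⟨cy, hcy, hcu⟩ := SpQuot16.existsUnique_glue hR (F := (yon S).obj C)
    (fun h hh => (yon S).map (x h hh).c) (fun m h hh => by rw [← Functor.map_comp, ← hcomp m h hh])
  obtain ⟨g, rfl⟩ := (yon S).map_surjective gy
  obtain ⟨c, rfl⟩ := (yon S).map_surjective cy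
  have hg : ∀ {Z : Over S} (h : Z ⟶ T') (hh : R h), h ≫ g = (x h hh).g := fun h hh =>
    (yon S).map_injective (by rw [Functor.map_comp]; exact hgy h hh)
  have hc : ∀ {Z : Over S} (h : Z ⟶ T') (hh : R h), h ≫ c = (x h hh).c := fun h hh =>
    (yon S).map_injective (by rw [Functor.map_comp]; exact hcy h hh)
  let q := dfst dPr c
  have hR' : R.pullback q ∈ AlgSp.J S (dObj dPr c) := (AlgSp.J S).pullback_stable q hR
  let kt : ∀ {Z : Over S} (k : Z ⟶ dObj dPr c) (hk : R (k ≫ q)), Z ⟶ dObj dPr (x (k ≫ q) hk).c := fun k hk =>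
    pullback.lift (𝟙 _) (k ≫ pullback.snd c dPr) (by
      rw [Category.id_comp, ← hc _ hk, Category.assoc, pullback.condition, Category.assoc])
  obtain ⟨l, hl, hlu⟩ := SpQuot16.existsUnique_glue hR' (F := F)
    (fun k hk => (yon S).map (kt k hk) ≫ (x (k ≫ q) hk).l) (fun {Z Z'} m k hk => by
      have e := hcomp m (k ≫ q) hk
      have hkm : R ((m ≫ k) ≫ q) := by rw [Category.assoc]; exact R.downward_closed hk m
      have e2 : PSec.res dPr a m (x (k ≫ q) hk) = x ((m ≫ k) ≫ q) hkm := by
        rw [e]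
        congr 1
        try exact (Category.assoc m k q).symm
      have hc2 : 𝟙 Z' ≫ m ≫ (x (k ≫ q) hk).c = (x ((m ≫ k) ≫ q) hkm).c := by
        rw [Category.id_comp, ← hc _ hk, ← hc _ hkm]; simp
      have e3 := PSec.l_eq e2 hc2
      show _ = (yon S).map (kt (m ≫ k) hkm) ≫ (x ((m ≫ k) ≫ q) hkm).l
      rw [← e3]
      show _ = (yon S).map _ ≫ (yon S).map _ ≫ (yon S).map (dmap m rfl) ≫ (x (k ≫ q) hk).l
      rw [← Functor.map_comp_assoc, ← Functor.map_comp_assoc, ← Functor.map_comp_assoc]
      congr 2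
      apply pullback.hom_ext <;> simp [PSec.res, kt] <;> exact (Category.id_comp _).symm)
  have hla : l ≫ a = (yon S).map (q ≫ g) := SpQuot16.hom_ext_sieve hR' fun {Z} k hk => by
    rw [← Category.assoc, hl k hk, Category.assoc, (x (k ≫ q) hk).hl, ← Functor.map_comp, ← Functor.map_comp,
      ← hg _ hk]
    congr 1
    rw [← Category.assoc (kt k hk), pullback.lift_fst, Category.id_comp, Category.assoc]
  refine ⟨⟨g, c, l, hla⟩, fun Z h hh => ?_, fun s hs => ?_⟩
  · show PSec.res dPr a h ⟨g, c, l, hla⟩ = x h hh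
    refine PSec.ext' (hg h hh) (by rw [Category.id_comp]; exact hc h hh) ?_
    rw [← Functor.map_comp_assoc]
    let cs := (x h hh).c
    let k : dObj dPr cs ⟶ dObj dPr c := dmap h (hc h hh)
    have hk : R (k ≫ q) := by
      rw [show k ≫ q = pullback.fst cs dPr ≫ h from dmap_fst _ _]
      exact R.downward_closed hh _
    refine Eq.trans ?_ (Eq.trans (hl k hk) ?_)
    · congr 2
      apply pullback.hom_ext <;> simp [PSec.res, k, cs]
    · have e2 : PSec.res dPr a (pullback.fst cs dPr) (x h hh) = x (k ≫ q) hk := by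
        rw [hcomp]
        congr 1
        exact (dmap_fst _ _).symm
      have hc2 : 𝟙 _ ≫ pullback.fst cs dPr ≫ cs = (x (k ≫ q) hk).c := by
        rw [Category.id_comp, ← e2]
      have e3 := PSec.l_eq e2 hc2
      rw [← e3]
      show (yon S).map _ ≫ (yon S).map _ ≫ (yon S).map (dmap (pullback.fst cs dPr) rfl) ≫ (x h hh).l = _
      rw [← Functor.map_comp_assoc, ← Functor.map_comp_assoc]
      convert Category.id_comp ((x h hh).l) using 2
      rw [← (yon S).map_id]
      congr 1
      apply pullback.hom_ext <;> simp [PSec.res, kt, k, cs, q] <;> exact Category.id_comp _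
  · have hsg : s.g = g := (yon S).map_injective (hgu _ fun {Z} h hh => by
      rw [← Functor.map_comp, ← hs h hh]; rfl)
    have hsc : s.c = c := (yon S).map_injective (hcu _ fun {Z} h hh => by
      rw [← Functor.map_comp, ← hs h hh]; rfl)
    obtain ⟨gs, cs, ls, hls⟩ := s
    obtain rfl : gs = g := hsg
    obtain rfl : cs = c := hsc
    obtain rfl : ls = l := hlu _ fun {Z} k hk => by
      have hc2 : 𝟙 _ ≫ (k ≫ q) ≫ cs = (x (k ≫ q) hk).c := by
        rw [Category.id_comp]; exact hc _ hk
      have hs' : PSec.res dPr a (k ≫ q) ⟨gs, cs, ls, hls⟩ = x (k ≫ q) hk := hs _ hk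
      rw [← PSec.l_eq hs' hc2]
      show _ = (yon S).map _ ≫ (yon S).map _ ≫ (yon S).map _ ≫ ls
      rw [← Functor.map_comp_assoc, ← Functor.map_comp_assoc]
      congr 2
      apply pullback.hom_ext <;> simp [kt, q] <;> exact (Category.id_comp _).symm
    rfl

/-- the sheaf of lifts -/
noncomputable def pSp : Sp S := ⟨pPsh dPr a, (isSheaf_iff_isSheaf_of_type _ _).2 (pPsh_isSheaf dPr a)⟩

/-- its map to the base -/
noncomputable def toT : pSp dPr a ⟶ (yon S).obj T :=
  ObjectProperty.homMk { app := fun T' => ↾fun s => ⟨s.g⟩ }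

/-- its map to the parameters -/
noncomputable def toC : pSp dPr a ⟶ (yon S).obj C :=
  ObjectProperty.homMk { app := fun T' => ↾fun s => ⟨s.c⟩ }

variable {dPr a}

/-- the map given by a lift -/
noncomputable def PSec.toHom {T' : Over S} (s : PSec dPr a T') : (yon S).obj T' ⟶ pSp dPr a :=
  AlgSpace.sect.symm s

theorem PSec.toHom_toT {T' : Over S} (s : PSec dPr a T') : s.toHom ≫ toT dPr a = (yon S).map s.g := by
  apply AlgSpace.sect.injective
  rw [SpQuot16.sect_comp, PSec.toHom, Equiv.apply_symm_apply,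
    show AlgSpace.sect ((yon S).map s.g) = ULift.up s.g from GrothendieckTopology.uliftYonedaEquiv_uliftYoneda_map _ _]
  rfl

theorem PSec.toHom_toC {T' : Over S} (s : PSec dPr a T') : s.toHom ≫ toC dPr a = (yon S).map s.c := by
  apply AlgSpace.sect.injective
  rw [SpQuot16.sect_comp, PSec.toHom, Equiv.apply_symm_apply,
    show AlgSpace.sect ((yon S).map s.c) = ULift.up s.c from GrothendieckTopology.uliftYonedaEquiv_uliftYoneda_map _ _]
  rfl

theorem PSec.map_toHom {T' T'' : Over S} (f : T'' ⟶ T') (s : PSec dPr a T') :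
    (yon S).map f ≫ s.toHom = (PSec.res dPr a f s).toHom :=
  SpQuot16.map_sect_symm f _

theorem PSec.exists_toHom {T' : Over S} (z : (yon S).obj T' ⟶ pSp dPr a) : ∃ s : PSec dPr a T', s.toHom = z :=
  ⟨AlgSpace.sect z, AlgSpace.sect.symm_apply_apply z⟩

theorem PSec.toHom_injective {T' : Over S} : Function.Injective (PSec.toHom (dPr := dPr) (a := a) (T' := T')) :=
  fun s s' h => (AlgSpace.sect (F := pSp dPr a)).symm.injective h

end Groth.Agent.ChartLift16
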