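import Groth.Agent.Lib.ChartLift16.PSheaf
import Groth.Agent.Lib.IsoNat5.Unramified

/-!
# The pullback of the forgetful functor is the sheaf of lifts
-/

universe u

open CategoryTheory CategoryTheory.Functor CategoryTheory.Limits AlgebraicGeometry Opposite

set_option linter.style.haveILetI false
set_option linter.unusedSectionVars false
set_option backward.isDefEq.respectTransparency false
set_option backward.isDefEq.respectTransparency.types false

namespace Groth.Agent.ChartLift16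

open Groth.Agent.FC16 Groth.Agent.StAlg Groth.Agent.IsoNat5

variable {S : Scheme.{u}} {C D U T : Over S} (dPr : D ⟶ C) {𝒳 : AlgSt.Cat S} (h𝒳 : FibCat.IsFibGrpd 𝒳.p)
  (x : FibCat.overCat U ⥤ᵇ 𝒳) (y : FibCat.overCat T ⥤ᵇ 𝒳) {F : AlgSp.Sp S}
  (e : AlgSt.ofSp F ⥤ᵇ FibCat.fp y x) (he : FibCat.IsEquivOver e)

/-- the map of the representing sheaf to the base -/
noncomputable abbrev repMap : F ⟶ (AlgSp.yon S).obj T :=
  AlgSt.spMapOfOver (BasedFunctor.comp e (FibCat.fpFst y x))

variable {e}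

/-- the lift to `U` of a section -/
noncomputable def uOf {T' : Over S} (s : PSec dPr (repMap x y e) T') : dObj dPr s.c ⟶ U :=
  (exists_secObjOf he s.l (dfst dPr s.c ≫ s.g) s.hl).choose

/-- the isomorphism of a section -/
noncomputable def iOf {T' : Over S} (s : PSec dPr (repMap x y e) T') :
    Iso1 x (uOf dPr x y he s) y (dfst dPr s.c ≫ s.g) :=
  (exists_secObjOf he s.l (dfst dPr s.c ≫ s.g) s.hl).choose_spec.choose

theorem iOf_spec {T' : Over S} (s : PSec dPr (repMap x y e) T') :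
    (secObjOf (iOf dPr x y he s)).sec he = s.l :=
  (exists_secObjOf he s.l (dfst dPr s.c ≫ s.g) s.hl).choose_spec.choose_spec

/-- the trivialization of a section -/
noncomputable def psiObj {T' : Over S} (s : PSec dPr (repMap x y e) T') : Obj dPr x where
  base := T'
  pt := y.obj (Over.mk s.g)
  hpt := y.w_obj (Over.mk s.g)
  c := s.c
  u := uOf dPr x y he s
  φ := (iOf dPr x y he s).iso.hom ≫ y.map (sl (dfst dPr s.c) rfl)
  hφ := by
    haveI := (iOf dPr x y he s).lift
    haveI := map_sl_lift y (u' := s.g) (dfst dPr s.c) rfl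
    infer_instance

variable {dPr x y}

include h𝒳 in
theorem sec_iff {T' T'' : Over S} {c : T' ⟶ C} {c' : T'' ⟶ C} {g : T' ⟶ T} {g' : T'' ⟶ T} {f : T'' ⟶ T'}
    {hc : f ≫ c = c'} (hg : f ≫ g = g') {u : dObj dPr c ⟶ U} {u' : dObj dPr c' ⟶ U} (hu : dmap f hc ≫ u = u')
    (i : Iso1 x u y (dfst dPr c ≫ g)) (i' : Iso1 x u' y (dfst dPr c' ≫ g')) :
    (AlgSp.yon S).map (dmap f hc) ≫ (secObjOf i).sec he = (secObjOf i').sec he ↔
      x.map (sl (dmap f hc) hu) ≫ i.iso.hom ≫ y.map (sl (dfst dPr c) rfl) =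
        (i'.iso.hom ≫ y.map (sl (dfst dPr c') rfl)) ≫ y.map (sl f hg) := by
  have hv : dmap f hc ≫ dfst dPr c ≫ g = dfst dPr c' ≫ g' := by
    rw [← Category.assoc, dmap_fst, Category.assoc, hg]
  have hsl : y.map (sl (dmap f hc) hv) ≫ y.map (sl (dfst dPr c) rfl) =
      y.map (sl (dfst dPr c') rfl) ≫ y.map (sl f hg) := by
    rw [← Functor.map_comp, ← Functor.map_comp]
    exact congrArg y.map (Over.OverMorphism.ext (dmap_fst f hc))
  rw [secObjOf_pb h𝒳 he i (dmap f hc) hu hv]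
  constructor
  · intro h
    obtain ⟨_, h2⟩ := eq_of_secObjOf_eq he _ _ h
    rw [Iso1.ofEq_rfl, Iso1.refl_trans] at h2
    subst h2
    exact (Category.assoc _ _ _).symm.trans ((congrArg (· ≫ y.map (sl (dfst dPr c) rfl))
      (Iso1.pb_spec h𝒳 i (dmap f hc) hu hv).symm).trans ((Category.assoc _ _ _).trans
        ((congrArg ((Iso1.pb h𝒳 i (dmap f hc) hu hv).iso.hom ≫ ·) hsl).trans (Category.assoc _ _ _).symm)))
  · intro h
    congr 1
    congr 1
    refine Iso1.pb_unique h𝒳 _ ?_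
    rw [Category.assoc, ← hsl] at h
    haveI := i.lift
    haveI := i'.lift
    haveI := map_sl_lift x (dmap f hc) hu
    haveI := map_sl_lift y (dmap f hc) hv
    haveI := map_sl_lift y (u' := g) (dfst dPr c) rfl
    haveI := FC16.isStronglyCartesian h𝒳 (dfst dPr c) (y.map (sl (dfst dPr c) (rfl : dfst dPr c ≫ g = _)))
    haveI : 𝒳.p.IsHomLift (dmap (dPr := dPr) f hc)
        (i'.iso.hom ≫ y.map (sl (dmap (dPr := dPr) f hc) hv)) := inferInstance
    haveI : 𝒳.p.IsHomLift (dmap (dPr := dPr) f hc)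
        (x.map (sl (dmap (dPr := dPr) f hc) hu) ≫ i.iso.hom) := inferInstance
    refine IsStronglyCartesian.ext 𝒳.p (dfst dPr c) (y.map (sl (dfst dPr c) (rfl : dfst dPr c ≫ g = _))) (dmap f hc) ?_
    rw [Category.assoc, Category.assoc]
    exact h.symm

include h𝒳 in
theorem uOf_res {T' T'' : Over S} (f : T'' ⟶ T') (s : PSec dPr (repMap x y e) T')
    (s' : PSec dPr (repMap x y e) T'') (hc : f ≫ s.c = s'.c) (hg : f ≫ s.g = s'.g)
    (hl : (AlgSp.yon S).map (dmap f hc) ≫ s.l = s'.l) :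
    ∃ hu : dmap f hc ≫ uOf dPr x y he s = uOf dPr x y he s',
      x.map (sl (dmap f hc) hu) ≫ (psiObj dPr x y he s).φ = (psiObj dPr x y he s').φ ≫ y.map (sl f hg) := by
  have hv : dmap f hc ≫ dfst dPr s.c ≫ s.g = dfst dPr s'.c ≫ s'.g := by
    rw [← Category.assoc, dmap_fst, Category.assoc, hg]
  have h : (AlgSp.yon S).map (dmap f hc) ≫ (secObjOf (iOf dPr x y he s)).sec he =
      (secObjOf (iOf dPr x y he s')).sec he := by rw [iOf_spec, iOf_spec, hl]
  obtain ⟨hu, -⟩ := eq_of_secObjOf_eq he _ _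
    ((secObjOf_pb h𝒳 he (iOf dPr x y he s) (dmap f hc) rfl hv).symm.trans h)
  exact ⟨hu, (sec_iff h𝒳 he hg hu _ _).1 h⟩

theorem res_of_hom {a b : (AlgSt.ofSp (pSp dPr (repMap x y e))).obj} (m : a ⟶ b) :
    PSec.res dPr (repMap x y e) m.hom b.sec = a.sec := m.map_sec

variable (dPr x y)

/-- the map to the category of trivializations -/
noncomputable def psiHom {a b : (AlgSt.ofSp (pSp dPr (repMap x y e))).obj} (m : a ⟶ b) :
    Obj.Hom (psiObj dPr x y he a.sec) (psiObj dPr x y he b.sec) where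
  f := m.hom
  ψ := y.map (sl m.hom (congrArg PSec.g (res_of_hom m)))
  hψ := map_sl_lift y _ _
  hc := congrArg PSec.c (res_of_hom m)
  hu := by
    have hl : (AlgSp.yon S).map (dmap m.hom (congrArg PSec.c (res_of_hom m))) ≫ b.sec.l = a.sec.l := by
      rw [← PSec.l_eq (res_of_hom m) ((Category.id_comp _).trans (congrArg PSec.c (res_of_hom m))),
        ← Functor.map_comp_assoc]
      congr 2
      apply pullback.hom_ext <;> simp
    exact (uOf_res h𝒳 he m.hom b.sec a.sec _ (congrArg PSec.g (res_of_hom m)) hl).1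
  hφ := by
    have hl : (AlgSp.yon S).map (dmap m.hom (congrArg PSec.c (res_of_hom m))) ≫ b.sec.l = a.sec.l := by
      rw [← PSec.l_eq (res_of_hom m) ((Category.id_comp _).trans (congrArg PSec.c (res_of_hom m))),
        ← Functor.map_comp_assoc]
      congr 2
      apply pullback.hom_ext <;> simp
    exact (uOf_res h𝒳 he m.hom b.sec a.sec _ (congrArg PSec.g (res_of_hom m)) hl).2

/-- The comparison functor. -/
noncomputable def psi : AlgSt.ofSp (pSp dPr (repMap x y e)) ⥤ᵇ FibCat.fp y (forget dPr x) where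
  toFunctor :=
    { obj := fun a =>
        ⟨{ fst := Over.mk (PSec.g (dPr := dPr) (a := repMap x y e) a.sec)
           snd := (psiObj dPr x y he a.sec : (cat dPr x).obj)
           iso := Iso.refl _ }, IsHomLift.id (y.w_obj (Over.mk (PSec.g (dPr := dPr) (a := repMap x y e) a.sec)))⟩
      map := fun {a b} m => ObjectProperty.homMk
        { fst := sl m.hom (congrArg PSec.g (res_of_hom m))
          snd := (psiHom dPr h𝒳 x y he m :)
          w := by
            show y.map _ ≫ 𝟙 _ = 𝟙 _ ≫ y.map _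
            rw [Category.comp_id, Category.id_comp] }
      map_id := fun a => fp_hom_ext (Over.OverMorphism.ext rfl)
        (hom_ext ((congrArg y.map (Over.OverMorphism.ext rfl)).trans (CategoryTheory.Functor.map_id _ _)))
      map_comp := fun {a b c} m m' => fp_hom_ext (Over.OverMorphism.ext rfl) (hom_ext (by
        show y.map _ = y.map (sl m.hom (congrArg PSec.g (res_of_hom m))) ≫
          y.map (sl m'.hom (congrArg PSec.g (res_of_hom m')))
        rw [← Functor.map_comp]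
        exact congrArg y.map (Over.OverMorphism.ext rfl))) }
  w := CategoryTheory.Functor.ext (fun _ => rfl) (fun _ _ m => by simp; rfl)

theorem spMap_psi : AlgSt.spMapOfOver (BasedFunctor.comp (psi dPr h𝒳 x y he) (FibCat.fpFst y (forget dPr x))) =
    toT dPr (repMap x y e) := by
  apply ObjectProperty.hom_ext
  refine NatTrans.ext (funext fun T' => ?_)
  refine ConcreteCategory.hom_ext _ _ fun s => ?_
  exact ULift.ext _ _ (Category.id_comp _)

variable {dPr x y}

theorem psi_faithful : (psi dPr h𝒳 x y he).toFunctor.Faithful :=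
  ⟨fun {a b m m'} h => Stk.EltObj.Hom.ext (congrArg (fun k => (k.hom.fst).left) h)⟩

theorem psi_full : (psi dPr h𝒳 x y he).toFunctor.Full := ⟨fun {a b} m => by
  obtain ⟨T'', s'⟩ := a
  obtain ⟨T', s⟩ := b
  change PSec dPr (repMap x y e) T'' at s'
  change PSec dPr (repMap x y e) T' at s
  let f : T'' ⟶ T' := m.hom.fst.left
  have hg : f ≫ s.g = s'.g := Over.w m.hom.fst
  let n : Obj.Hom (psiObj dPr x y he s') (psiObj dPr x y he s) := m.hom.snd
  have hψ : y.map m.hom.fst = n.ψ := by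
    have hw : y.map m.hom.fst ≫ 𝟙 (y.obj (Over.mk s.g)) = 𝟙 (y.obj (Over.mk s'.g)) ≫ n.ψ := fp_w m
    exact (Category.comp_id _).symm.trans (hw.trans (Category.id_comp _))
  have hnf : n.f = f := by
    haveI := n.hψ
    haveI : 𝒳.p.IsHomLift f n.ψ := by
      rw [← hψ]
      exact map_sl_lift y f hg
    exact FC16.isHomLift_unique (p := 𝒳.p) n.f f n.ψ
  have hc : f ≫ s.c = s'.c := hnf ▸ n.hc
  have hd : dmap (dPr := dPr) f hc = dmap (dPr := dPr) n.f n.hc := by congr 1; exact hnf.symm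
  have hu : dmap f hc ≫ uOf dPr x y he s = uOf dPr x y he s' := hd ▸ n.hu
  have hφ : x.map (sl (dmap f hc) hu) ≫ (psiObj dPr x y he s).φ = (psiObj dPr x y he s').φ ≫ y.map (sl f hg) :=
    ((congrArg (fun k => x.map k ≫ (psiObj dPr x y he s).φ) (Over.OverMorphism.ext hd)).trans n.hφ).trans
      (congrArg ((psiObj dPr x y he s').φ ≫ ·) hψ.symm)
  have hl : (AlgSp.yon S).map (dmap f hc) ≫ s.l = s'.l := by
    rw [← iOf_spec dPr x y he s, ← iOf_spec dPr x y he s']
    exact (sec_iff h𝒳 he hg hu _ _).2 hφ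
  have hsec : PSec.res dPr (repMap x y e) f s = s' := by
    refine PSec.ext' hg (by rw [Category.id_comp]; exact hc) ?_
    rw [← Functor.map_comp_assoc, ← hl]
    congr 2
    apply pullback.hom_ext <;> simp
  exact ⟨⟨f, hsec⟩, fp_hom_ext (Over.OverMorphism.ext rfl) (hom_ext hψ)⟩⟩

include h𝒳 in
theorem psi_essSurj : FC16.EssSurjOver (psi dPr h𝒳 x y he) := by
  intro η
  obtain ⟨⟨fst, A, iso⟩, hη⟩ := η
  change Obj dPr x at A
  have hA : A.base = fst.left :=
    FC16.snd_p (F := y) (G := forget dPr x) (⟨⟨fst, A, iso⟩, hη⟩ : (FibCat.fp y (forget dPr x)).obj)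
  obtain ⟨B, pt, hpt, c, u, φ, hφ⟩ := A
  obtain rfl : B = fst.left := hA
  let g : fst.left ⟶ T := fst.hom
  have hiso : 𝒳.p.IsHomLift (𝟙 fst.left) iso.hom := hη
  haveI := hφ
  haveI := hiso
  haveI : 𝒳.p.IsHomLift (𝟙 fst.left) iso.inv := IsHomLift.lift_id_inv 𝒳.p _ iso
  haveI := map_sl_lift y (u' := g) (dfst dPr c) rfl
  haveI : 𝒳.p.IsHomLift (dfst dPr c) (φ ≫ iso.inv) := inferInstance
  obtain ⟨i, hi, hie⟩ := exists_iso_of_lifts h𝒳 (dfst dPr c) (φ ≫ iso.inv) (y.map (sl (dfst dPr c) (rfl : _ ≫ g = _)))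
  let j : Iso1 x u y (dfst dPr c ≫ g) := ⟨i, hi⟩
  let s : PSec dPr (repMap x y e) fst.left := ⟨g, c, (secObjOf j).sec he, SecObj.sec_comp he (secObjOf j)⟩
  have h0 : (secObjOf (iOf dPr x y he s)).sec he = (secObjOf j).sec he := iOf_spec dPr x y he s
  obtain ⟨hu, hj⟩ := eq_of_secObjOf_eq he _ _ h0
  have hu' : dmap (𝟙 fst.left) (Category.id_comp c) ≫ u = uOf dPr x y he s := by
    rw [dmap_eq_id rfl, Category.id_comp, hu]
  have hφ' : x.map (sl (dmap (𝟙 fst.left) (Category.id_comp c)) hu') ≫ φ =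
      (psiObj dPr x y he s).φ ≫ iso.hom := by
    show _ = ((iOf dPr x y he s).iso.hom ≫ y.map _) ≫ iso.hom
    rw [hj]
    have e1 : ∀ (u₁ : dObj dPr c ⟶ U) (h1 : u₁ = u) (h2 : dmap (𝟙 fst.left) (Category.id_comp c) ≫ u = u₁),
        x.map (sl (dmap (𝟙 fst.left) (Category.id_comp c)) h2) = (Iso1.ofEq x h1).iso.hom := by
      rintro u₁ rfl h2
      rw [sl_dmap_id, CategoryTheory.Functor.map_id]
      rfl
    rw [e1 _ hu hu']
    show _ = (((Iso1.ofEq x hu).iso.hom ≫ i.hom) ≫ y.map _) ≫ iso.hom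
    rw [Category.assoc (Iso1.ofEq x hu).iso.hom, hie]
    simp
  let n : Obj.Hom (psiObj dPr x y he s) ⟨fst.left, pt, hpt, c, u, φ, hφ⟩ :=
    { f := 𝟙 _
      ψ := iso.hom
      hψ := hiso
      hc := Category.id_comp c
      hu := hu'
      hφ := hφ' }
  let η : (FibCat.fp y (forget dPr x)).obj :=
    ⟨⟨fst, (⟨fst.left, pt, hpt, c, u, φ, hφ⟩ : Obj dPr x), iso⟩, hη⟩
  let a : (AlgSt.ofSp (pSp dPr (repMap x y e))).obj := ⟨fst.left, s⟩
  let m : (psi dPr h𝒳 x y he).obj a ⟶ η := ObjectProperty.homMk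
    { fst := (sl (𝟙 fst.left) (Category.id_comp g) :)
      snd := (n :)
      w := by
        show y.map (sl (𝟙 fst.left) (Category.id_comp g)) ≫ iso.hom = 𝟙 _ ≫ iso.hom
        rw [show sl (𝟙 fst.left) (Category.id_comp g) = 𝟙 _ from Over.OverMorphism.ext rfl,
          CategoryTheory.Functor.map_id]
        rfl }
  haveI hm : (FibCat.fp y (forget dPr x)).p.IsHomLift (𝟙 fst.left) m :=
    IsHomLift.of_fac' _ _ m rfl rfl (by simp [m, sl]; rfl)
  haveI : IsIso m := FC16.isIso_of_isHomLift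
    (fp_isFibGrpd (overCat_isFibGrpd T) (cat_isFibGrpd h𝒳) h𝒳 y (forget dPr x)) (𝟙 fst.left) m
  exact ⟨a, asIso m, hm⟩

include h𝒳 in
theorem psi_isEquivOver : FibCat.IsEquivOver (psi dPr h𝒳 x y he) :=
  haveI := psi_full h𝒳 he (dPr := dPr) (x := x) (y := y)
  haveI := psi_faithful h𝒳 he (dPr := dPr) (x := x) (y := y)
  isEquivOver_of _ (psi_essSurj h𝒳 he)

end Groth.Agent.ChartLift16
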