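import Mathlib.AlgebraicGeometry.Limits
import Mathlib.AlgebraicGeometry.Morphisms.Smooth
import Mathlib.AlgebraicGeometry.Morphisms.Etale
import Mathlib.AlgebraicGeometry.Morphisms.Finite
import Mathlib.AlgebraicGeometry.Morphisms.Integral
import Mathlib.RingTheory.Etale.StandardEtale
import Mathlib.RingTheory.Polynomial.Resultant.Basic
import Mathlib.FieldTheory.PrimitiveElement
import Groth.Agent.Lib.CurveNF.SigmaProper

/-!
# A generic finite etale family through a finite separable field extension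
-/

universe u

set_option linter.style.haveILetI false

open CategoryTheory CategoryTheory.Limits AlgebraicGeometry Polynomial

set_option backward.isDefEq.respectTransparency.types false

namespace Groth.Agent.ChartLift16

theorem etale_adjoinRoot {R : Type u} [CommRing R] {f : R[X]} (hf : f.Monic)
    (h : IsCoprime f (derivative f)) : Algebra.Etale R (AdjoinRoot f) := by
  obtain ⟨a, b, hab⟩ := h
  let P : StandardEtalePair R := ⟨f, hf, 1, b, a, 0, by rw [pow_zero, ← hab]; ring⟩
  have hu : IsUnit (AdjoinRoot.mk P.f P.g) := by simp [P]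
  let e : AdjoinRoot f ≃ₐ[AdjoinRoot f] Localization.Away (AdjoinRoot.mk P.f P.g) :=
    IsLocalization.atUnit (AdjoinRoot f) (Localization.Away (AdjoinRoot.mk P.f P.g)) (AdjoinRoot.mk P.f P.g) hu
  exact Algebra.Etale.of_equiv (P.equivAwayAdjoinRoot.trans (e.restrictScalars R).symm)

/-- The ring family of degree `n`: a smooth ring over the integers with a finite etale algebra cut out by a
monic polynomial, specializing to every separable monic polynomial of degree `n`. -/
theorem exists_ring_family (n : ℕ) :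
    ∃ (A : Type u) (_ : CommRing A) (_ : Algebra (ULift.{u} ℤ) A) (_ : Algebra.Smooth (ULift.{u} ℤ) A)
      (F : A[X]), F.Monic ∧ IsCoprime F (derivative F) ∧ (Nontrivial A → F.natDegree = n) ∧
        ∀ {k : Type u} [Field k] {f : k[X]}, f.Monic → f.Separable → f.natDegree = n →
          ∃ c : A →+* k, F.map c = f := by
  classical
  let F₀ : (MvPolynomial (Fin n) (ULift.{u} ℤ))[X] :=
    X ^ n + ∑ i : Fin n, C (MvPolynomial.X i) * X ^ (i : ℕ)
  have hF₀ : F₀.Monic := monic_X_pow_add (degree_sum_fin_lt _)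
  have hF₀d : F₀.natDegree = n := by
    have h := degree_sum_fin_lt (R := MvPolynomial (Fin n) (ULift.{u} ℤ)) (n := n) MvPolynomial.X
    have : F₀.degree = n := by
      rw [degree_add_eq_left_of_degree_lt (by rwa [degree_X_pow]), degree_X_pow]
    exact natDegree_eq_of_degree_eq_some this
  let h := resultant F₀ (derivative F₀) n n
  have hd : ∀ {R : Type u} [CommRing R] (p : R[X]), p.natDegree ≤ n → (derivative p).natDegree ≤ n :=
    fun p hp => (natDegree_derivative_le p).trans ((Nat.sub_le _ _).trans hp)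
  let A := Localization.Away h
  haveI : Algebra.Smooth (ULift.{u} ℤ) (MvPolynomial (Fin n) (ULift.{u} ℤ)) := ⟨inferInstance, inferInstance⟩
  let F := F₀.map (algebraMap (MvPolynomial (Fin n) (ULift.{u} ℤ)) A)
  refine ⟨A, inferInstance, inferInstance, Algebra.Smooth.comp (ULift.{u} ℤ)
    (MvPolynomial (Fin n) (ULift.{u} ℤ)) A, F, hF₀.map _, ?_, fun _ => ?_, ?_⟩
  · rcases Nat.eq_zero_or_pos n with h0 | h0
    · rw [show F = 1 by simp [F, eq_one_of_monic_natDegree_zero hF₀ (hF₀d.trans h0)]]
      exact isCoprime_one_left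
    obtain ⟨p, q, -, -, e⟩ := exists_mul_add_mul_eq_C_resultant (m := n) (n := n) F₀ (derivative F₀)
      hF₀d.le (hd F₀ hF₀d.le) (Or.inl h0.ne')
    obtain ⟨v, hv⟩ := (IsLocalization.Away.algebraMap_isUnit (S := A) h).exists_left_inv
    refine ⟨C v * p.map (algebraMap _ A), C v * q.map (algebraMap _ A), ?_⟩
    have e' := congrArg (fun r => C v * Polynomial.map (algebraMap _ A) r) e
    simp only [Polynomial.map_add, Polynomial.map_mul, Polynomial.map_C, ← derivative_map, ← map_mul,
      show v * algebraMap _ A (resultant F₀ (derivative F₀) n n) = 1 from hv, map_one] at e'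
    linear_combination e'
  · rw [hF₀.natDegree_map, hF₀d]
  · intro k _ f hf hs hn
    subst hn
    let ev : MvPolynomial (Fin f.natDegree) (ULift.{u} ℤ) →+* k :=
      MvPolynomial.eval₂Hom ((Int.castRingHom k).comp ULift.ringEquiv.toRingHom) fun i => f.coeff i
    have hmap : F₀.map ev = f := by
      conv_rhs => rw [hf.as_sum]
      simp only [F₀, Polynomial.map_add, Polynomial.map_pow, Polynomial.map_X, Polynomial.map_sum,
        Polynomial.map_mul, Polynomial.map_C, ev, MvPolynomial.eval₂Hom_X',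
        Finset.sum_range fun i => C (f.coeff i) * X ^ i]
    have hh : IsUnit (ev h) := by
      rw [← resultant_map_map, ← derivative_map, hmap]
      have := (isUnit_resultant_iff_isCoprime hf).2 hs
      obtain ⟨j, hj⟩ := Nat.le.dest (hd f le_rfl)
      conv => arg 1; arg 4; rw [← hj]
      rw [resultant_add_right_deg _ _ _ _ j le_rfl]
      exact (show IsUnit (f.coeff f.natDegree ^ j) by simp [hf.coeff_natDegree]).mul this
    refine ⟨IsLocalization.Away.lift h hh, ?_⟩
    rw [Polynomial.map_map, IsLocalization.Away.lift_comp, hmap]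

theorem eq_toSpecΓ_comp {Q : Scheme.{u}} {R : CommRingCat.{u}} (a : Q ⟶ Spec R) :
    a = Q.toSpecΓ ≫ Spec.map ((Scheme.ΓSpecIso R).inv ≫ a.appTop) := by
  rw [Spec.map_comp, ← Scheme.toSpecΓ_naturality_assoc, ← SpecMap_ΓSpecIso_hom, ← Spec.map_comp,
    Iso.inv_hom_id, Spec.map_id, Category.comp_id]

variable {S : Scheme.{u}}

/-- One finite etale surjective map of smooth schemes over the base having every finite separable field
extension over the base as a fibre over a field point. -/
theorem exists_uniform_family (S : Scheme.{u}) :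
    ∃ (C D : Over S) (dPr : D ⟶ C), Smooth C.hom ∧ IsFinite dPr.left ∧ Etale dPr.left ∧ Surjective dPr.left ∧
      ∀ (k : Type u) [Field k] (sk : Spec (CommRingCat.of k) ⟶ S) (k' : Type u) [Field k'] [Algebra k k']
        [FiniteDimensional k k'] [Algebra.IsSeparable k k'],
        ∃ c : Over.mk sk ⟶ C, ∀ (P : Over S) (a : P ⟶ Over.mk sk) (b : P ⟶ D), a ≫ c = b ≫ dPr →
          ∃ r : P ⟶ Over.mk (Spec.map (CommRingCat.ofHom (algebraMap k k')) ≫ sk),
            r ≫ (Over.homMk (Spec.map (CommRingCat.ofHom (algebraMap k k'))) rfl :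
              Over.mk (Spec.map (CommRingCat.ofHom (algebraMap k k')) ≫ sk) ⟶ Over.mk sk) = a := by
  choose A iA iAlg iSm F hF hsep hdeg hc using fun m : ULift.{u} ℕ => exists_ring_family.{u} (m.down + 1)
  let a₀ : ∀ m, Spec (CommRingCat.of (A m)) ⟶ Spec (CommRingCat.of (ULift.{u} ℤ)) :=
    fun m => Spec.map (CommRingCat.ofHom (algebraMap (ULift.{u} ℤ) (A m)))
  let dn : ∀ m, Spec (CommRingCat.of (AdjoinRoot (F m))) ⟶ Spec (CommRingCat.of (A m)) :=
    fun m => Spec.map (CommRingCat.ofHom (algebraMap (A m) (AdjoinRoot (F m))))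
  have hsm : ∀ m, Smooth (a₀ m) := fun m => HasRingHomProperty.Spec_iff.2 (RingHom.smooth_algebraMap.2 (iSm m))
  have het : ∀ m, Etale (dn m) := fun m =>
    HasRingHomProperty.Spec_iff.2 (RingHom.etale_algebraMap.2 (etale_adjoinRoot (hF m) (hsep m)))
  have hfin : ∀ m, IsFinite (dn m) := fun m =>
    (IsFinite.SpecMap_iff _).2 (RingHom.finite_algebraMap.2 (hF m).finite_adjoinRoot)
  have hsur : ∀ m, Surjective (dn m) := fun m => ⟨fun x => by
    haveI : Module.Finite (A m) (AdjoinRoot (F m)) := (hF m).finite_adjoinRoot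
    haveI : Algebra.IsIntegral (A m) (AdjoinRoot (F m)) := Algebra.IsIntegral.of_finite _ _
    haveI : Nontrivial (A m) := (PrimeSpectrum.nonempty_iff_nontrivial).1 ⟨x⟩
    have hinj : Function.Injective (algebraMap (A m) (AdjoinRoot (F m))) := by
      refine (injective_iff_map_eq_zero _).2 fun r hr => ?_
      by_contra hne
      rw [AdjoinRoot.algebraMap_eq] at hr
      exact (hF m).not_dvd_of_natDegree_lt (C_ne_zero.2 hne)
        (by rw [natDegree_C, hdeg m inferInstance]; omega)
        (AdjoinRoot.mk_eq_zero.1 ((AdjoinRoot.mk_C r).trans hr))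
    exact RingHom.IsIntegral.comap_surjective (algebraMap_isIntegral_iff.2 ‹_›) hinj x⟩
  let aC := Sigma.desc a₀
  let d := Limits.Sigma.map dn
  let T₀ := Spec (CommRingCat.of (ULift.{u} ℤ))
  let s₀ : S ⟶ T₀ := specULiftZIsTerminal.from S
  haveI : Smooth aC := IsZariskiLocalAtSource.sigmaDesc hsm
  haveI : Etale d := by
    have e : d = Sigma.desc fun m => dn m ≫ Sigma.ι (fun m => Spec (CommRingCat.of (A m))) m :=
      Sigma.hom_ext _ _ fun m => by simp [d, Limits.Sigma.map]
    rw [e]
    exact IsZariskiLocalAtSource.sigmaDesc fun m => by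
      haveI := het m
      infer_instance
  haveI : IsFinite d := by
    refine IsZariskiLocalAtTarget.of_openCover (P := @IsFinite)
      (sigmaOpenCover fun m => Spec (CommRingCat.of (A m))) fun m => ?_
    show IsFinite (pullback.snd d (Sigma.ι (fun m => Spec (CommRingCat.of (A m))) m))
    rw [← IsPullback.isoPullback_inv_snd (CurveNF.isPullback_sigmaMap dn m).flip]
    haveI := hfin m
    infer_instance
  haveI : Surjective d := ⟨fun x => by
    obtain ⟨m, y, rfl⟩ := CurveNF.exists_sigma_eq x
    obtain ⟨z, rfl⟩ := (hsur m).surj y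
    refine ⟨Sigma.ι (fun m => Spec (CommRingCat.of (AdjoinRoot (F m)))) m z, ?_⟩
    rw [← Scheme.Hom.comp_apply, ← Scheme.Hom.comp_apply]
    simp [d, Limits.Sigma.map]⟩
  let C : Over S := Over.mk (pullback.fst s₀ aC)
  have hw : pullback.fst s₀ (d ≫ aC) ≫ s₀ = (pullback.snd s₀ (d ≫ aC) ≫ d) ≫ aC := by
    rw [Category.assoc, pullback.condition]
  let D : Over S := Over.mk (pullback.fst s₀ (d ≫ aC))
  let dPr : D ⟶ C := Over.homMk (pullback.lift _ _ hw) (pullback.lift_fst _ _ _)
  have hpb : IsPullback dPr.left (pullback.snd s₀ (d ≫ aC)) (pullback.snd s₀ aC) d :=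
    IsPullback.of_right (by
      rw [show dPr.left ≫ pullback.fst s₀ aC = _ from pullback.lift_fst _ _ _]
      exact IsPullback.of_hasPullback s₀ (d ≫ aC))
      (pullback.lift_snd _ _ _) (IsPullback.of_hasPullback s₀ aC)
  refine ⟨C, D, dPr, MorphismProperty.pullback_fst _ _ inferInstance,
    MorphismProperty.of_isPullback hpb.flip inferInstance, MorphismProperty.of_isPullback hpb.flip inferInstance,
    MorphismProperty.of_isPullback hpb.flip inferInstance, fun k _ sk k' _ _ _ _ => ?_⟩
  let pb := Field.powerBasisOfFiniteOfSeparable k k'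
  have hint : IsIntegral k pb.gen := IsIntegral.of_finite k pb.gen
  let m : ULift.{u} ℕ := ⟨(minpoly k pb.gen).natDegree - 1⟩
  obtain ⟨c, hmap⟩ := hc m (minpoly.monic hint) (Algebra.IsSeparable.isSeparable k pb.gen) (by
    have := minpoly.natDegree_pos hint
    show _ = (minpoly k pb.gen).natDegree - 1 + 1
    omega)
  let cS : Over.mk sk ⟶ C := Over.homMk (pullback.lift sk (Spec.map (CommRingCat.ofHom c) ≫
    Sigma.ι (fun m => Spec (CommRingCat.of (A m))) m) (specULiftZIsTerminal.hom_ext _ _)) (pullback.lift_fst _ _ _)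
  refine ⟨cS, fun P a b hab => ?_⟩
  have e1 : cS.left ≫ pullback.snd s₀ aC = Spec.map (CommRingCat.ofHom c) ≫ Sigma.ι (fun m => Spec (CommRingCat.of (A m))) m :=
    pullback.lift_snd _ _ _
  have e2 : dPr.left ≫ pullback.snd s₀ aC = pullback.snd s₀ (d ≫ aC) ≫ d := pullback.lift_snd _ _ _
  have e3 : (a.left ≫ Spec.map (CommRingCat.ofHom c)) ≫ Sigma.ι (fun m => Spec (CommRingCat.of (A m))) m =
      (b.left ≫ pullback.snd s₀ (d ≫ aC)) ≫ d := by
    rw [Category.assoc, ← e1, Category.assoc, ← e2, ← Category.assoc, ← Category.assoc]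
    exact congrArg (· ≫ pullback.snd s₀ aC) (congrArg CommaMorphism.left hab)
  let j : P.left ⟶ Spec (CommRingCat.of (AdjoinRoot (F m))) := (CurveNF.isPullback_sigmaMap dn m).lift _ _ e3
  have h1 : a.left ≫ Spec.map (CommRingCat.ofHom c) = j ≫ dn m :=
    ((CurveNF.isPullback_sigmaMap dn m).lift_fst _ _ e3).symm
  let α : CommRingCat.of k ⟶ Γ(P.left, ⊤) := (Scheme.ΓSpecIso _).inv ≫ a.left.appTop
  let β : CommRingCat.of (AdjoinRoot (F m)) ⟶ Γ(P.left, ⊤) := (Scheme.ΓSpecIso _).inv ≫ j.appTop
  have hcd : CommRingCat.ofHom c ≫ α = CommRingCat.ofHom (algebraMap (A m) (AdjoinRoot (F m))) ≫ β := by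
    have h2 := congrArg Scheme.Hom.appTop h1
    rw [Scheme.Hom.comp_appTop, Scheme.Hom.comp_appTop] at h2
    simp only [α, β, Scheme.ΓSpecIso_inv_naturality_assoc, dn] at h2 ⊢
    rw [h2]
  letI : Algebra k Γ(P.left, ⊤) := α.hom.toAlgebra
  have hroot : Polynomial.aeval (β (AdjoinRoot.root (F m))) (minpoly k pb.gen) = 0 := by
    have hz := congrArg β.hom (AdjoinRoot.eval₂_root (F m))
    rw [map_zero, Polynomial.hom_eval₂] at hz
    rw [← hmap, Polynomial.aeval_def, Polynomial.eval₂_map, RingHom.algebraMap_toAlgebra]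
    rw [show α.hom.comp c = β.hom.comp (AdjoinRoot.of (F m)) from congrArg CommRingCat.Hom.hom hcd]
    exact hz
  let γ : k' →ₐ[k] Γ(P.left, ⊤) := pb.lift (β (AdjoinRoot.root (F m))) hroot
  have hr : (P.left.toSpecΓ ≫ Spec.map (CommRingCat.ofHom γ.toRingHom)) ≫
      Spec.map (CommRingCat.ofHom (algebraMap k k')) = a.left := by
    rw [Category.assoc, ← Spec.map_comp]
    conv_rhs => rw [eq_toSpecΓ_comp a.left]
    congr 2
    exact CommRingCat.hom_ext (RingHom.ext fun z => γ.commutes z)
  refine ⟨Over.homMk (P.left.toSpecΓ ≫ Spec.map (CommRingCat.ofHom γ.toRingHom)) ?_, Over.OverMorphism.ext hr⟩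
  change _ ≫ Spec.map (CommRingCat.ofHom (algebraMap k k')) ≫ sk = P.hom
  rw [← Category.assoc, hr]
  exact Over.w a

end Groth.Agent.ChartLift16
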