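import Groth.Agent.Lib.StAlg16.Cover
import Groth.Agent.Lib.AlgSpace.EtaleSheaf
import Groth.Agent.Lib.IsoNat5.Iso1

/-!
# Objects of a stack trivialized on a pulled back finite etale cover
-/

universe u

open CategoryTheory CategoryTheory.Functor CategoryTheory.Limits AlgebraicGeometry Opposite

set_option linter.style.haveILetI false
set_option linter.unusedSectionVars false
set_option backward.isDefEq.respectTransparency false
set_option backward.isDefEq.respectTransparency.types false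

namespace Groth.Agent.ChartLift16

open Groth.Agent.FC16 Groth.Agent.IsoNat5

variable {S : Scheme.{u}} {C D U : Over S} (dPr : D ⟶ C)

/-- the pulled back cover -/
noncomputable abbrev dObj {T : Over S} (c : T ⟶ C) : Over S := pullback c dPr

/-- its structure map -/
noncomputable abbrev dfst {T : Over S} (c : T ⟶ C) : dObj dPr c ⟶ T := pullback.fst c dPr

variable {dPr} in
/-- functoriality of the pulled back cover -/
noncomputable def dmap {T T' : Over S} {c : T ⟶ C} {c' : T' ⟶ C} (f : T' ⟶ T) (h : f ≫ c = c') :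
    dObj dPr c' ⟶ dObj dPr c :=
  pullback.lift (pullback.fst c' dPr ≫ f) (pullback.snd c' dPr)
    (by rw [Category.assoc, h, pullback.condition])

variable {dPr}

@[reassoc (attr := simp)]
theorem dmap_fst {T T' : Over S} {c : T ⟶ C} {c' : T' ⟶ C} (f : T' ⟶ T) (h : f ≫ c = c') :
    dmap f h ≫ pullback.fst c dPr = pullback.fst c' dPr ≫ f := pullback.lift_fst _ _ _

@[reassoc (attr := simp)]
theorem dmap_snd {T T' : Over S} {c : T ⟶ C} {c' : T' ⟶ C} (f : T' ⟶ T) (h : f ≫ c = c') :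
    dmap f h ≫ pullback.snd c dPr = pullback.snd c' dPr := pullback.lift_snd _ _ _

theorem dmap_eq_id {T : Over S} {c : T ⟶ C} {f : T ⟶ T} (hf : f = 𝟙 T) (h : f ≫ c = c) :
    dmap (dPr := dPr) f h = 𝟙 _ := by
  subst hf
  apply pullback.hom_ext <;> simp

theorem sl_dmap_id {T U : Over S} {c : T ⟶ C} {u : dObj dPr c ⟶ U} (h : 𝟙 T ≫ c = c)
    (hu : dmap (𝟙 T) h ≫ u = u) : sl (dmap (𝟙 T) h) hu = 𝟙 (Over.mk u) :=
  Over.OverMorphism.ext (dmap_eq_id rfl h)

theorem dmap_comp {T T' T'' : Over S} {c : T ⟶ C} {c' : T' ⟶ C} {c'' : T'' ⟶ C} (f : T' ⟶ T) (h : f ≫ c = c')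
    (g : T'' ⟶ T') (h' : g ≫ c' = c'') {e : T'' ⟶ T} (he : e = g ≫ f) (h'' : e ≫ c = c'') :
    dmap (dPr := dPr) e h'' = dmap g h' ≫ dmap f h := by
  subst he
  apply pullback.hom_ext <;> simp

theorem sl_dmap_comp {U T T' T'' : Over S} {c : T ⟶ C} {c' : T' ⟶ C} {c'' : T'' ⟶ C} (f : T' ⟶ T) (h : f ≫ c = c')
    (g : T'' ⟶ T') (h' : g ≫ c' = c'') (h'' : (g ≫ f) ≫ c = c'') {u : dObj dPr c ⟶ U} {u' : dObj dPr c' ⟶ U}
    {u'' : dObj dPr c'' ⟶ U} (hu : dmap f h ≫ u = u') (hu' : dmap g h' ≫ u' = u'')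
    (hu'' : dmap (g ≫ f) h'' ≫ u = u'') :
    sl (dmap (g ≫ f) h'') hu'' = sl (dmap g h') hu' ≫ sl (dmap f h) hu :=
  Over.OverMorphism.ext (dmap_comp f h g h' rfl h'')

theorem isPullback_dmap {T T' : Over S} {c : T ⟶ C} {c' : T' ⟶ C} (f : T' ⟶ T) (h : f ≫ c = c') :
    IsPullback (dmap (dPr := dPr) f h) (pullback.fst c' dPr) (pullback.fst c dPr) f :=
  IsPullback.of_right (h₁₁ := dmap f h) (h₁₂ := pullback.snd c dPr)
    (by rw [dmap_snd, h]; exact (IsPullback.of_hasPullback c' dPr).flip)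
    (dmap_fst f h) (IsPullback.of_hasPullback c dPr).flip

theorem etale_dfst {T : Over S} (c : T ⟶ C) (he : Etale dPr.left) : Etale (dfst dPr c).left := by
  have sq := (IsPullback.of_hasPullback c dPr).map (Over.forget S)
  exact MorphismProperty.of_isPullback sq.flip he

theorem surjective_dfst {T : Over S} (c : T ⟶ C) (hs : Surjective dPr.left) : Surjective (dfst dPr c).left := by
  have sq := (IsPullback.of_hasPullback c dPr).map (Over.forget S)
  exact MorphismProperty.of_isPullback sq.flip hs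

theorem dfst_mem_J {T : Over S} (c : T ⟶ C) (he : Etale dPr.left) (hs : Surjective dPr.left) :
    Sieve.generate (Presieve.singleton (dfst dPr c)) ∈ QuotSh.J Scheme.etalePrecoverage S T :=
  AlgSpace.mem_etale_J _ fun t => ⟨dObj dPr c, dfst dPr c, etale_dfst c he, Sieve.le_generate _ _ _ ⟨⟩,
    (surjective_dfst c hs).surj t⟩

variable {𝒳 : AlgSt.Cat S} (x : FibCat.overCat U ⥤ᵇ 𝒳) (dPr)

/-- An object of `𝒳` over `base` with a map to `C` and a lift to `U` on the pulled back cover. -/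
structure Obj where
  /-- the base -/
  base : Over S
  /-- the object -/
  pt : 𝒳.obj
  hpt : 𝒳.p.obj pt = base
  /-- the parameter -/
  c : base ⟶ C
  /-- the lift -/
  u : dObj dPr c ⟶ U
  /-- the comparison -/
  φ : x.obj (Over.mk u) ⟶ pt
  hφ : 𝒳.p.IsHomLift (dfst dPr c) φ

variable {dPr x}

/-- morphisms -/
structure Obj.Hom (A B : Obj dPr x) where
  /-- the map of bases -/
  f : A.base ⟶ B.base
  /-- the map of objects -/
  ψ : A.pt ⟶ B.pt
  hψ : 𝒳.p.IsHomLift f ψ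
  hc : f ≫ B.c = A.c
  hu : dmap f hc ≫ B.u = A.u
  hφ : x.map (sl (dmap f hc) hu) ≫ B.φ = A.φ ≫ ψ

theorem Obj.Hom.ext' {A B : Obj dPr x} {a b : Obj.Hom A B} (h : a.ψ = b.ψ) : a = b := by
  obtain ⟨f, ψ, hψ, hc, hu, hφ⟩ := a
  obtain ⟨f', ψ', hψ', hc', hu', hφ'⟩ := b
  obtain rfl : ψ = ψ' := h
  obtain rfl : f = f' := by
    haveI := hψ
    haveI := hψ'
    exact FC16.isHomLift_unique (p := 𝒳.p) f f' ψ
  rfl

/-- identity -/
noncomputable def Obj.Hom.id (A : Obj dPr x) : Obj.Hom A A where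
  f := 𝟙 _
  ψ := 𝟙 _
  hψ := IsHomLift.id A.hpt
  hc := Category.id_comp _
  hu := by rw [dmap_eq_id rfl, Category.id_comp]
  hφ := by
    rw [sl_dmap_id, CategoryTheory.Functor.map_id, Category.id_comp, Category.comp_id]

/-- composition -/
noncomputable def Obj.Hom.comp {A B B' : Obj dPr x} (a : Obj.Hom A B) (b : Obj.Hom B B') : Obj.Hom A B' where
  f := a.f ≫ b.f
  ψ := a.ψ ≫ b.ψ
  hψ := by haveI := a.hψ; haveI := b.hψ; infer_instance
  hc := by rw [Category.assoc, b.hc, a.hc]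
  hu := by rw [dmap_comp b.f b.hc a.f a.hc rfl, Category.assoc, b.hu, a.hu]
  hφ := by
    rw [sl_dmap_comp b.f b.hc a.f a.hc _ b.hu a.hu _, Functor.map_comp, Category.assoc, b.hφ, ← Category.assoc,
      a.hφ, Category.assoc]

noncomputable instance : Category.{u} (Obj dPr x) where
  Hom := Obj.Hom
  id := Obj.Hom.id
  comp := Obj.Hom.comp
  id_comp _ := Obj.Hom.ext' (Category.id_comp _)
  comp_id _ := Obj.Hom.ext' (Category.comp_id _)
  assoc _ _ _ := Obj.Hom.ext' (Category.assoc _ _ _)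

@[ext] theorem hom_ext {A B : Obj dPr x} {a b : A ⟶ B} (h : a.ψ = b.ψ) : a = b := Obj.Hom.ext' h

variable (dPr x)

/-- The category of trivializations, over the base. -/
noncomputable def cat : AlgSt.Cat S :=
  BasedCategory.ofFunctor
    ({ obj := fun A => A.base
       map := fun {A B} (a : Obj.Hom A B) => a.f
       map_id := fun _ => rfl
       map_comp := fun _ _ => rfl } : Obj dPr x ⥤ Over S)

/-- forgetting the trivialization -/
noncomputable def forget : cat dPr x ⥤ᵇ 𝒳 where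
  toFunctor :=
    { obj := fun A => Obj.pt A
      map := fun {A B} (a : Obj.Hom A B) => a.ψ
      map_id := fun _ => rfl
      map_comp := fun _ _ => rfl }
  w := CategoryTheory.Functor.ext (fun B => Obj.hpt (dPr := dPr) (x := x) B) fun A B a => by
    haveI := Obj.Hom.hψ (dPr := dPr) (x := x) a
    exact IsHomLift.fac' 𝒳.p (Obj.Hom.f (dPr := dPr) (x := x) a) (Obj.Hom.ψ (dPr := dPr) (x := x) a)

instance : (forget dPr x).toFunctor.Faithful := ⟨fun h => hom_ext h⟩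

variable {dPr x}

theorem isHomLift_iff' {A B : (cat dPr x).obj} (a : A ⟶ B) (f : (cat dPr x).p.obj A ⟶ (cat dPr x).p.obj B) :
    (cat dPr x).p.IsHomLift f a ↔ f = (cat dPr x).p.map a :=
  ⟨fun _ => IsHomLift.eq_of_isHomLift (cat dPr x).p f a, fun h => h ▸ IsHomLift.map (cat dPr x).p a⟩

theorem cat_isFibGrpd (h𝒳 : FibCat.IsFibGrpd 𝒳.p) : FibCat.IsFibGrpd (cat dPr x).p := by
  haveI := FC16.isFibered h𝒳
  refine ⟨fun {B} {V} f => ?_, fun {A B} a => ?_⟩
  · change Obj dPr x at B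
    change V ⟶ B.base at f
    obtain ⟨pt, ψ, hψ⟩ := FC16.exists_lift h𝒳 B.hpt f
    haveI := hψ
    haveI := B.hφ
    haveI := map_sl_lift x (dmap (dPr := dPr) (c' := f ≫ B.c) f rfl) (u' := B.u) rfl
    haveI : 𝒳.p.IsHomLift (dfst dPr (f ≫ B.c) ≫ f) (x.map (sl (dmap f rfl) rfl) ≫ B.φ) := by
      rw [← dmap_fst f rfl]; infer_instance
    haveI := FC16.isStronglyCartesian h𝒳 f ψ
    let φ' := IsStronglyCartesian.map 𝒳.p f ψ (g := dfst dPr (f ≫ B.c)) (f' := dfst dPr (f ≫ B.c) ≫ f) rfl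
      (x.map (sl (dmap f rfl) rfl) ≫ B.φ)
    let A : Obj dPr x :=
      { base := V
        pt := pt
        hpt := IsHomLift.domain_eq 𝒳.p f ψ
        c := f ≫ B.c
        u := dmap f rfl ≫ B.u
        φ := φ'
        hφ := inferInstance }
    let m : Obj.Hom A B :=
      { f := f
        ψ := ψ
        hψ := hψ
        hc := rfl
        hu := rfl
        hφ := (IsStronglyCartesian.fac 𝒳.p f ψ (g := dfst dPr (f ≫ B.c)) (f' := dfst dPr (f ≫ B.c) ≫ f) rfl
          (x.map (sl (dmap f rfl) rfl) ≫ B.φ)).symm }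
    exact ⟨A, m, IsHomLift.map (cat dPr x).p (m : (A : (cat dPr x).obj) ⟶ B)⟩
  · change Obj dPr x at A B
    change Obj.Hom A B at a
    haveI := a.hψ
    haveI := FC16.isStronglyCartesian h𝒳 a.f a.ψ
    haveI : (cat dPr x).p.IsHomLift a.f (a : (A : (cat dPr x).obj) ⟶ B) := IsHomLift.map (cat dPr x).p a
    refine { universal_property' := fun {A'} g b hb => ?_ }
    change Obj dPr x at A'
    change Obj.Hom A' B at b
    change A'.base ⟶ A.base at g
    have hg : g ≫ a.f = b.f := (isHomLift_iff' _ _).1 hb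
    haveI : 𝒳.p.IsHomLift (g ≫ a.f) b.ψ := hg ▸ b.hψ
    let χ := IsStronglyCartesian.map 𝒳.p a.f a.ψ (g := g) (f' := g ≫ a.f) rfl b.ψ
    have hχ : χ ≫ a.ψ = b.ψ := IsStronglyCartesian.fac 𝒳.p a.f a.ψ rfl b.ψ
    have hc : g ≫ A.c = A'.c := by rw [← a.hc, ← Category.assoc, hg, b.hc]
    have hd : dmap b.f b.hc = dmap g hc ≫ dmap a.f a.hc := dmap_comp (dPr := dPr) a.f a.hc g hc hg.symm b.hc
    have hu : dmap g hc ≫ A.u = A'.u := by rw [← a.hu, ← Category.assoc, ← hd, b.hu]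
    let m : Obj.Hom A' A :=
      { f := g
        ψ := χ
        hψ := inferInstance
        hc := hc
        hu := hu
        hφ := by
          haveI := A.hφ
          haveI := A'.hφ
          haveI := map_sl_lift x (dmap g hc) hu
          haveI : 𝒳.p.IsHomLift (dfst dPr A'.c ≫ g) (A'.φ ≫ χ) := inferInstance
          haveI : 𝒳.p.IsHomLift (dfst dPr A'.c ≫ g) (x.map (sl (dmap g hc) hu) ≫ A.φ) := by
            rw [← dmap_fst g hc]; infer_instance
          refine IsStronglyCartesian.ext 𝒳.p a.f a.ψ (dfst dPr A'.c ≫ g) ?_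
          rw [Category.assoc, Category.assoc, hχ, ← a.hφ, ← Category.assoc, ← Functor.map_comp, ← b.hφ]
          exact congrArg (fun m => x.map m ≫ B.φ) (Over.OverMorphism.ext hd.symm) }
    refine ⟨m, ⟨IsHomLift.map (cat dPr x).p (m : (A' : (cat dPr x).obj) ⟶ A), hom_ext hχ⟩, ?_⟩
    rintro m' ⟨hm', hcomp⟩
    refine hom_ext ?_
    haveI : 𝒳.p.IsHomLift g (Obj.Hom.ψ m') := ((isHomLift_iff' m' g).1 hm') ▸ (Obj.Hom.hψ m')
    exact IsStronglyCartesian.map_uniq 𝒳.p a.f a.ψ rfl b.ψ (Obj.Hom.ψ m') (congrArg Obj.Hom.ψ hcomp)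

theorem cat_isFibSetoid (h𝒳 : Stk.IsStack (QuotSh.J Scheme.etalePrecoverage S) 𝒳) (he : Etale dPr.left)
    (hs : Surjective dPr.left) : FibCat.IsFibSetoid (cat dPr x).p := by
  refine ⟨cat_isFibGrpd h𝒳.1, fun T A B => ⟨fun a b => Functor.Fiber.hom_ext ?_⟩⟩
  obtain ⟨A, hA⟩ := A
  obtain ⟨B, hB⟩ := B
  obtain ⟨a, ha⟩ := a
  obtain ⟨b, hb⟩ := b
  change Obj dPr x at A B
  change Obj.Hom A B at a b
  subst hA
  have hf : a.f = b.f :=
    (@IsHomLift.fac' _ _ _ _ (cat dPr x).p _ _ _ _ _ (a : (A : (cat dPr x).obj) ⟶ B) ha).trans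
      (@IsHomLift.fac' _ _ _ _ (cat dPr x).p _ _ _ _ _ (b : (A : (cat dPr x).obj) ⟶ B) hb).symm
  have hx : x.map (sl (dmap a.f a.hc) a.hu) ≫ B.φ = x.map (sl (dmap b.f b.hc) b.hu) ≫ B.φ :=
    congrArg (fun m => x.map m ≫ B.φ) (Over.OverMorphism.ext (by
      show dmap a.f a.hc = dmap b.f b.hc
      congr 1))
  rw [a.hφ, b.hφ] at hx
  refine hom_ext ?_
  haveI : 𝒳.p.IsHomLift (𝟙 A.base) a.ψ :=
    @BasedFunctor.preserves_isHomLift _ _ _ _ (forget dPr x) _ _ _ _ _ (a : (A : (cat dPr x).obj) ⟶ B) ha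
  haveI : 𝒳.p.IsHomLift (𝟙 A.base) b.ψ :=
    @BasedFunctor.preserves_isHomLift _ _ _ _ (forget dPr x) _ _ _ _ _ (b : (A : (cat dPr x).obj) ⟶ B) hb
  refine StAlg16.hom_ext_of_cover (isPrestack_of_isStack _ h𝒳) (dfst_mem_J A.c he hs) a.ψ b.ψ ?_
  rintro w π V g ⟨_, q, _, ⟨⟩, rfl⟩ hπ
  haveI := A.hφ
  haveI := hπ
  haveI := FC16.isStronglyCartesian h𝒳.1 (dfst dPr A.c) A.φ
  rw [← IsStronglyCartesian.fac 𝒳.p (dfst dPr A.c) A.φ (g := q) rfl π, Category.assoc, Category.assoc, hx]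

end Groth.Agent.ChartLift16
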