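import Groth.Agent.Lib.ChartLift16.Hens
import Groth.Agent.Lib.AlgSpace.Coprod

/-!
# A separated smooth chart to which all quotient points of a henselian local ring lift
-/

universe u

open CategoryTheory CategoryTheory.Functor CategoryTheory.Limits AlgebraicGeometry Opposite

set_option linter.style.haveILetI false
set_option linter.unusedSectionVars false
set_option backward.isDefEq.respectTransparency false
set_option backward.isDefEq.respectTransparency.types false

namespace Groth.Agent.ChartLift16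

open Groth.Agent.FC16 Groth.Agent.StAlg Groth.Agent.StAlg16 AlgSt

variable {S : Scheme.{u}} {𝒵 : AlgSt.Cat S}

/-- Functors out of the empty scheme into a stack are isomorphic. -/
theorem nonempty_iso_of_isEmpty (h : Stk.IsStack (QuotSh.J Scheme.etalePrecoverage S) 𝒵) {T : Over S}
    [IsEmpty ↥T.left] (x y : FibCat.overCat T ⥤ᵇ 𝒵) : Nonempty (x ≅ y) := by
  haveI : (Stk.resSieve (⊥ : Sieve T) 𝒵).IsEquivalence :=
    h.2 _ (AlgSpace.mem_etale_J _ fun t => isEmptyElim t)
  haveI : IsEmpty (Stk.sieveCat (⊥ : Sieve T)).obj := ⟨fun a => a.property.elim⟩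
  exact ⟨(Stk.resSieve (⊥ : Sieve T) 𝒵).preimageIso
    (BasedNatIso.mkNatIso (NatIso.ofComponents (fun a => isEmptyElim a) (fun {a _} _ => (IsEmpty.false a).elim))
      fun a => (IsEmpty.false a).elim)⟩

/-- One separated smooth chart receives all quotient points of a henselian local ring. -/
theorem exists_quotient_family (h : AlgSt.IsAlgStack Scheme.etalePrecoverage 𝒵)
    (R : Type u) [CommRing R] [HenselianLocalRing R] (str : Spec (CommRingCat.of R) ⟶ S) :
    ∃ (Z : Over S) (p : FibCat.overCat Z ⥤ᵇ 𝒵), IsSeparated Z.hom ∧ AlgSt.RepByAlgSpWith (AlgSp.LocP @Smooth) p ∧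
      ∀ (a : Ideal R) (x : FibCat.overCat (Over.mk (Spec.map (CommRingCat.ofHom (Ideal.Quotient.mk a)) ≫ str)) ⥤ᵇ 𝒵),
        ∃ g : Over.mk (Spec.map (CommRingCat.ofHom (Ideal.Quotient.mk a)) ≫ str) ⟶ Z,
          Nonempty (BasedFunctor.comp (AlgSt.overMap g) p ≅ x) := by
  obtain ⟨Z, p, hsep, hp, hl⟩ := exists_separated_chart_family h
  refine ⟨Z, p, hsep, hp, fun a x => ?_⟩
  by_cases ha : a = ⊤
  · haveI : Subsingleton (R ⧸ a) := Ideal.Quotient.subsingleton_iff.2 ha
    haveI : IsEmpty ↥(Over.mk (Spec.map (CommRingCat.ofHom (Ideal.Quotient.mk a)) ≫ str) : Over S).left :=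
      inferInstanceAs (IsEmpty (PrimeSpectrum (R ⧸ a)))
    obtain ⟨g'⟩ := AlgSpace.exists_hom_of_isEmpty
      (T := (Over.mk (Spec.map (CommRingCat.ofHom (Ideal.Quotient.mk a)) ≫ str) : Over S)) ((AlgSp.yon S).obj Z)
    obtain ⟨g, -⟩ := (AlgSp.yon S).map_surjective g'
    exact ⟨g, nonempty_iso_of_isEmpty h.isStack _ _⟩
  · haveI : Nontrivial (R ⧸ a) := Ideal.Quotient.nontrivial_iff.2 ha
    haveI : IsLocalRing (R ⧸ a) := IsLocalRing.of_surjective' _ Ideal.Quotient.mk_surjective
    haveI : HenselianLocalRing (R ⧸ a) := Hens.henselianLocalRing_of_isIntegral R (R ⧸ a)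
    obtain ⟨u₀, ⟨w⟩⟩ := hl (IsLocalRing.ResidueField (R ⧸ a))
      (Spec.map (CommRingCat.ofHom (IsLocalRing.residue (R ⧸ a))) ≫
        Spec.map (CommRingCat.ofHom (Ideal.Quotient.mk a)) ≫ str)
      (BasedFunctor.comp (AlgSt.overMap (Over.homMk (Spec.map (CommRingCat.ofHom (IsLocalRing.residue (R ⧸ a)))) rfl :
        Over.mk (Spec.map (CommRingCat.ofHom (IsLocalRing.residue (R ⧸ a))) ≫
          Spec.map (CommRingCat.ofHom (Ideal.Quotient.mk a)) ≫ str) ⟶
        Over.mk (Spec.map (CommRingCat.ofHom (Ideal.Quotient.mk a)) ≫ str))) x)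
    exact exists_lift_of_residue h.isStack.1 p hp (R ⧸ a) _ x u₀ w

end Groth.Agent.ChartLift16
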