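import Groth.Agent.Lib.ChartLift16.Main
import Groth.Agent.Lib.HensLift16.Space
import Groth.Agent.Lib.Hens.PairOps
import Groth.Agent.Lib.StAlg16.SmoothLocal
import Groth.Agent.Lib.StAlg.Diag

/-!
# Henselian points of algebraic stacks lift to smooth affine charts
-/

universe u

open CategoryTheory CategoryTheory.Functor CategoryTheory.Limits AlgebraicGeometry Opposite

set_option linter.style.haveILetI false
set_option linter.unusedSectionVars false
set_option backward.isDefEq.respectTransparency false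
set_option backward.isDefEq.respectTransparency.types false

namespace Groth.Agent.ChartLift16

open Groth.Agent.FC16 Groth.Agent.StAlg Groth.Agent.StAlg16 AlgSt

variable {S : Scheme.{u}} {𝒵 : AlgSt.Cat S}

theorem isAlgStack_etale_of_fppf (h : AlgSt.IsAlgStack Scheme.fppfPrecoverage 𝒵) :
    AlgSt.IsAlgStack Scheme.etalePrecoverage 𝒵 :=
  ⟨⟨h.isStack.1, fun _ R hR => h.isStack.2 R (AlgSpace.etale_le_fppf R hR)⟩, h.diag, h.atlas⟩

/-- Henselian points lift through smooth charts as soon as their residual points do. -/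
theorem exists_lift_of_residue (g𝒵 : FibCat.IsFibGrpd 𝒵.p) {Z : Over S} (p : FibCat.overCat Z ⥤ᵇ 𝒵)
    (hp : AlgSt.RepByAlgSpWith (AlgSp.LocP @Smooth) p)
    (R : Type u) [CommRing R] [HenselianLocalRing R] (str : Spec (CommRingCat.of R) ⟶ S)
    (z : FibCat.overCat (Over.mk str) ⥤ᵇ 𝒵)
    (u₀ : Over.mk (Spec.map (CommRingCat.ofHom (IsLocalRing.residue R)) ≫ str) ⟶ Z)
    (w : BasedFunctor.comp (AlgSt.overMap u₀) p ≅
      BasedFunctor.comp (AlgSt.overMap (Over.homMk (Spec.map (CommRingCat.ofHom (IsLocalRing.residue R))) rfl :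
        Over.mk (Spec.map (CommRingCat.ofHom (IsLocalRing.residue R)) ≫ str) ⟶ Over.mk str)) z) :
    ∃ g : Over.mk str ⟶ Z, Nonempty (BasedFunctor.comp (AlgSt.overMap g) p ≅ z) := by
  let f : AlgSt.ofSp ((AlgSp.yon S).obj Z) ⥤ᵇ 𝒵 := BasedFunctor.comp (AlgSt.toOverCat Z) p
  have key : ∀ {T : Over S} (g : T ⟶ Z),
      Nonempty (BasedFunctor.comp (AlgSt.overMap g) p ≅
        BasedFunctor.comp (BasedFunctor.comp (AlgSt.ofOverCat T) (AlgSt.ofSpMap ((AlgSp.yon S).map g))) f) :=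
    fun {T} g => ⟨wlIso (AlgSt.overMap g) (wrIso (eqToIso (ofOver_toOver Z).symm) p) ≪≫
      wrIso (ofOverMapIso g) f⟩
  obtain ⟨k₀⟩ := key u₀
  obtain ⟨z', -, ⟨j⟩⟩ := HensLift16.exists_space_lift g𝒵 ⟨_, AlgSp.IsAlgSpace.yon_obj Z⟩ f
    (with_toOverCat_comp hp) R str z ((AlgSp.yon S).map u₀) ⟨k₀.symm ≪≫ w⟩
  obtain ⟨g, rfl⟩ := (AlgSp.yon S).map_surjective z'
  obtain ⟨k⟩ := key g
  exact ⟨g, ⟨k ≪≫ j⟩⟩

/-- Henselian points lift to smooth affine charts. -/
theorem exists_affine_chart_lift_of_henselian (h : AlgSt.IsAlgStack Scheme.etalePrecoverage 𝒵)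
    (R : Type u) [CommRing R] [HenselianLocalRing R] (str : Spec (CommRingCat.of R) ⟶ S)
    (z : FibCat.overCat (Over.mk str) ⥤ᵇ 𝒵) :
    ∃ (Z : Over S) (_ : IsAffine Z.left) (p : FibCat.overCat Z ⥤ᵇ 𝒵) (g : Over.mk str ⟶ Z),
      AlgSt.RepByAlgSpWith (AlgSp.LocP @Smooth) p ∧
        Nonempty (BasedFunctor.comp (AlgSt.overMap g) p ≅ z) := by
  obtain ⟨Z, hZ, p, u₀, hp, ⟨w⟩⟩ := exists_affine_chart_lift h (IsLocalRing.ResidueField R)
    (Spec.map (CommRingCat.ofHom (IsLocalRing.residue R)) ≫ str)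
    (BasedFunctor.comp (AlgSt.overMap (Over.homMk (Spec.map (CommRingCat.ofHom (IsLocalRing.residue R))) rfl :
      Over.mk (Spec.map (CommRingCat.ofHom (IsLocalRing.residue R)) ≫ str) ⟶ Over.mk str)) z)
  obtain ⟨g, hg⟩ := exists_lift_of_residue h.isStack.1 p hp R str z u₀ w
  exact ⟨Z, hZ, p, g, hp, hg⟩

theorem surjective_of_with_overMap {U V : Over S} (k : U ⟶ V)
    (hk : AlgSt.RepByAlgSpWith AlgSp.IsSurjectiveMor (AlgSt.overMap k)) : Surjective k.left :=
  surjective_left_of_isSurjectiveMor k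
    ((repBySpWith_of_with goodP_surjective.preIso ((with_congr (f := AlgSt.overMap k) (a := AlgSt.toOverCat U)
      (b := AlgSt.toOverCat V) (toOverCat_isEquivOver U) (toOverCat_isEquivOver V) (overMapIso k)).1 hk))
        (𝟙 _) (𝟙 _) ((AlgSp.yon S).map k).hom (IsPullback.of_horiz_isIso ⟨by simp⟩)).2.2

theorem smooth_hom_of_with_selfOver {V : Over S} {y : FibCat.overCat V ⥤ᵇ FibCat.selfOver (Over S)}
    (hy : AlgSt.RepByAlgSpWith (AlgSp.LocP @Smooth) y) : Smooth V.hom := by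
  obtain ⟨t, ⟨i⟩⟩ := exists_overMap_iso (BasedFunctor.comp y (selfToTerm (U := S)))
  haveI : Smooth t.left := of_with_locP_overMap t (with_of_iso i
    ((with_congr (f := BasedFunctor.comp y (selfToTerm (U := S))) (f' := y) (a := BasedFunctor.id _)
      (b := selfToTerm (U := S)) isEquivOver_id selfToTerm_isEquivOver (Iso.refl _)).2 hy))
  have e : t.left = V.hom := (Category.comp_id t.left).symm.trans (Over.w t)
  rw [← e]
  infer_instance

/-- Smooth charts of a stack smooth over the base are smooth over the base. -/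
theorem smooth_hom_of_chart (g𝒵 : FibCat.IsFibGrpd 𝒵.p)
    (hsm : AlgSt.LocQ (AlgSp.LocP @Smooth) (FibCat.toSelf 𝒵)) {Z : Over S} {p : FibCat.overCat Z ⥤ᵇ 𝒵}
    (hp : AlgSt.RepByAlgSpWith (AlgSp.LocP @Smooth) p) : Smooth Z.hom := by
  obtain ⟨U₀, V₀, x₀, y₀, h₀, -, hx₀, hxs₀, hy₀, hh₀⟩ := hsm
  haveI := smooth_hom_of_with_selfOver hy₀
  haveI : Smooth h₀.left := (locP_yon_iff' h₀).1 hh₀
  haveI : Smooth U₀.hom := by rw [← Over.w h₀]; infer_instance
  obtain ⟨W, w, hw, hws⟩ := exists_fp_chart g𝒵 p (repByAlgSp1_of_with hx₀)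
  obtain ⟨b, ⟨jb⟩⟩ := exists_overMap_iso (BasedFunctor.comp w (FibCat.fpFst p x₀))
  obtain ⟨b₀, ⟨jb₀⟩⟩ := exists_overMap_iso (BasedFunctor.comp w (FibCat.fpSnd p x₀))
  have hfp := fp_isFibGrpd (overCat_isFibGrpd Z) (overCat_isFibGrpd U₀) g𝒵 p x₀
  haveI hb : Smooth b.left := of_with_locP_overMap b
    (with_of_iso jb (with_comp goodP_locP (overCat_isFibGrpd W) hfp (hw @Smooth) (with_fpFst p hx₀)))
  haveI hb₀ : Smooth b₀.left := of_with_locP_overMap b₀
    (with_of_iso jb₀ (with_comp goodP_locP (overCat_isFibGrpd W) hfp (hw @Smooth) (with_fpSnd x₀ hp)))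
  haveI hbs : Surjective b.left := surjective_of_with_overMap b
    (with_of_iso jb (with_comp goodP_surjective (overCat_isFibGrpd W) hfp hws (with_fpFst p hxs₀)))
  have h : Smooth (b.left ≫ Z.hom) := by
    rw [Over.w b, ← Over.w b₀]
    infer_instance
  exact AlgSpDescent.smooth_of_smooth_surjective_comp b.left Z.hom hb hbs h

theorem exists_lift_quotient_point (R : Type u) [CommRing R] [HenselianLocalRing R]
    {𝒳 : AlgSt.Cat (Spec (CommRingCat.of R))} (h : AlgSt.IsAlgStack Scheme.etalePrecoverage 𝒳)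
    (hsm : AlgSt.LocQ (AlgSp.LocP @Smooth) (FibCat.toSelf 𝒳)) (a : Ideal R) (ha : a ≠ ⊤)
    (z₀ : FibCat.overCat (Over.mk (Spec.map (CommRingCat.ofHom (Ideal.Quotient.mk a)))) ⥤ᵇ 𝒳) :
    ∃ z : FibCat.overCat (Over.mk (𝟙 (Spec (CommRingCat.of R)))) ⥤ᵇ 𝒳,
      Nonempty (BasedFunctor.comp (AlgSt.overMap (Over.homMk (Spec.map (CommRingCat.ofHom (Ideal.Quotient.mk a)))
        (Category.comp_id _) : Over.mk (Spec.map (CommRingCat.ofHom (Ideal.Quotient.mk a))) ⟶ Over.mk (𝟙 _))) z ≅ z₀) := by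
  haveI : Nontrivial (R ⧸ a) := Ideal.Quotient.nontrivial_iff.2 ha
  haveI : IsLocalRing (R ⧸ a) := IsLocalRing.of_surjective' _ Ideal.Quotient.mk_surjective
  haveI : HenselianLocalRing (R ⧸ a) := Hens.henselianLocalRing_of_isIntegral R (R ⧸ a)
  obtain ⟨Z, -, p, g₀, hp, ⟨w⟩⟩ := exists_affine_chart_lift_of_henselian h (R ⧸ a) _ z₀
  haveI : Smooth Z.hom := smooth_hom_of_chart h.isStack.1 hsm hp
  haveI : HenselianRing R (RingHom.ker (Ideal.Quotient.mk a)) := by
    rw [Ideal.mk_ker]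
    exact Hens.henselianRing_of_le (Hens.henselianRing_maximalIdeal R) (IsLocalRing.le_maximalIdeal ha)
  obtain ⟨g, hg, hgg⟩ := SymPt15.exists_section_of_smooth (Ideal.Quotient.mk a) Ideal.Quotient.mk_surjective
    Z.hom g₀.left (Over.w g₀)
  let g' : Over.mk (𝟙 (Spec (CommRingCat.of R))) ⟶ Z := Over.homMk g hg
  let i : Over.mk (Spec.map (CommRingCat.ofHom (Ideal.Quotient.mk a))) ⟶ Over.mk (𝟙 (Spec (CommRingCat.of R))) :=
    Over.homMk (Spec.map (CommRingCat.ofHom (Ideal.Quotient.mk a))) (Category.comp_id _)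
  have hi : i ≫ g' = g₀ := Over.OverMorphism.ext hgg
  exact ⟨BasedFunctor.comp (AlgSt.overMap g') p,
    ⟨wrIso (overMapComp i g') p ≪≫ wrIso (eqToIso (congrArg AlgSt.overMap hi)) p ≪≫ w⟩⟩

end Groth.Agent.ChartLift16
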