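import Groth.Agent.Lib.ChartLift16.Split
import Groth.Agent.Lib.AlgSpace.FppfLocal
import Groth.Agent.Lib.AlgSpace.LocP
import Groth.Agent.Lib.StAlg16.LocPInst
import Groth.Prelude.Def_AlgSpCov

/-!
# The sheaf of lifts is a smooth algebraic space over the base
-/

universe u

open CategoryTheory CategoryTheory.Limits AlgebraicGeometry Opposite

set_option linter.style.haveILetI false
set_option linter.unusedSectionVars false
set_option backward.isDefEq.respectTransparency false
set_option backward.isDefEq.respectTransparency.types false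

namespace Groth.Agent.ChartLift16

open AlgSp Groth.Agent.AlgSpace

variable {S : Scheme.{u}} {C D T : Over S}

/-- fibre powers -/
theorem exists_fold {F : Sp S} (hF : IsAlgSpace F) {a : F ⟶ (yon S).obj T} (ha : LocP @Smooth a) (n : ℕ) :
    ∃ (Q : Sp S) (_ : IsAlgSpace Q) (q : Q ⟶ (yon S).obj T) (_ : LocP @Smooth q) (π : Fin n → (Q ⟶ F)),
      (∀ j, π j ≫ a = q) ∧
      ∀ (T' : Over S) (g : T' ⟶ T) (l : Fin n → ((yon S).obj T' ⟶ F)), (∀ j, l j ≫ a = (yon S).map g) →
        ∃! z : (yon S).obj T' ⟶ Q, z ≫ q = (yon S).map g ∧ ∀ j, z ≫ π j = l j := by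
  induction n with
  | zero =>
    exact ⟨(yon S).obj T, IsAlgSpace.yon_obj T, 𝟙 _, locP_id (IsAlgSpace.yon_obj T), fun j => j.elim0,
      fun j => j.elim0, fun T' g l _ => ⟨(yon S).map g, ⟨Category.comp_id _, fun j => j.elim0⟩,
        fun z hz => (Category.comp_id z).symm.trans hz.1⟩⟩
  | succ n ih =>
    obtain ⟨Q, hQ, q, hq, π, hπ, hu⟩ := ih
    have sq := IsPullback.of_hasPullback a q
    have hP := isAlgSpace_pullback (IsAlgSpace.yon_obj T) hF hQ sq
    refine ⟨pullback a q, hP, pullback.snd a q ≫ q,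
      locP_comp hP hQ (IsAlgSpace.yon_obj T) (locP_of_isPullback hF (IsAlgSpace.yon_obj T) hQ sq ha) hq,
      Fin.cons (pullback.fst a q) (fun j => pullback.snd a q ≫ π j), ?_, fun T' g l hl => ?_⟩
    · intro j
      refine Fin.cases ?_ (fun j => ?_) j
      · rw [Fin.cons_zero, pullback.condition]
      · rw [Fin.cons_succ, Category.assoc, hπ]
    · obtain ⟨z, ⟨hz₁, hz₂⟩, hzu⟩ := hu T' g (fun j => l j.succ) fun j => hl _
      refine ⟨pullback.lift (l 0) z (by rw [hl, hz₁]), ⟨by rw [pullback.lift_snd_assoc, hz₁], fun j => ?_⟩,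
        fun w hw => ?_⟩
      · refine Fin.cases ?_ (fun j => ?_) j
        · rw [Fin.cons_zero, pullback.lift_fst]
        · rw [Fin.cons_succ, pullback.lift_snd_assoc, hz₂]
      · apply pullback.hom_ext
        · rw [pullback.lift_fst]
          have := hw.2 0
          rwa [Fin.cons_zero] at this
        · rw [pullback.lift_snd]
          refine hzu _ ⟨by rw [Category.assoc]; exact hw.1, fun j => ?_⟩
          have := hw.2 j.succ
          rw [Fin.cons_succ] at this
          rw [Category.assoc]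
          exact this

variable (dPr : D ⟶ C) {F : Sp S} (a : F ⟶ (yon S).obj T)

theorem PSec.toHom_eta (T' : Over S) (z : (yon S).obj T' ⟶ pSp dPr a) :
    PSec.toHom (dPr := dPr) (a := a) (AlgSpace.sect z) = z := AlgSpace.sect.symm_apply_apply z

variable {a}

/-- over a split base the sheaf of lifts is a smooth algebraic space over the base -/
theorem exists_piece (hF : IsAlgSpace F) (ha : LocP @Smooth a) (hC : Smooth C.hom) {B : Over S} (b : B ⟶ C)
    (hb : Etale b.left) {n : ℕ} {σ : Fin n → (B ⟶ D)} {hσ : ∀ j, σ j ≫ dPr = b} (hs : IsSplit dPr b σ hσ) :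
    ∃ (R : Sp S) (_ : IsAlgSpace R) (fst : R ⟶ pSp dPr a) (snd : R ⟶ (yon S).obj B),
      IsPullback fst snd (toC dPr a) ((yon S).map b) ∧ LocP @Smooth (fst ≫ toT dPr a) := by
  obtain ⟨Q, hQ, q, hq, π, hπ, hu⟩ := exists_fold hF ha n
  let S₀ : Over S := Over.mk (𝟙 S)
  let tT : T ⟶ S₀ := Over.homMk T.hom (Category.comp_id _)
  let tB : B ⟶ S₀ := Over.homMk B.hom (Category.comp_id _)
  have hS₀ : ∀ {W : Over S} (f g : W ⟶ S₀), f = g := fun f g => Over.OverMorphism.ext
    ((Category.comp_id _).symm.trans ((Over.w f).trans ((Over.w g).symm.trans (Category.comp_id _))))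
  have sq := IsPullback.of_hasPullback (q ≫ (yon S).map tT) ((yon S).map tB)
  have hR := isAlgSpace_pullback (IsAlgSpace.yon_obj S₀) hQ (IsAlgSpace.yon_obj B) sq
  let R := pullback (q ≫ (yon S).map tT) ((yon S).map tB)
  -- the points of `R`
  have key : ∀ (V : Over S) (z : (yon S).obj V ⟶ R), ∃ s : PSec dPr a V,
      z ≫ pullback.fst _ _ ≫ q = (yon S).map s.g ∧ z ≫ pullback.snd _ _ ≫ (yon S).map b = (yon S).map s.c ∧
      ∀ (β : V ⟶ B) (hc : β ≫ b = s.c), z ≫ pullback.snd _ _ = (yon S).map β →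
        ∀ j, (yon S).map (secMap (σ j) (hσ j) β hc) ≫ s.l = z ≫ pullback.fst _ _ ≫ π j := fun V z => by
    obtain ⟨g, hg⟩ := (yon S).map_surjective (z ≫ pullback.fst _ _ ≫ q)
    obtain ⟨β, hβ⟩ := (yon S).map_surjective (z ≫ pullback.snd _ _)
    obtain ⟨l, hl, hlu⟩ := hs.existsUnique_glue β (c := β ≫ b) rfl fun j => z ≫ pullback.fst _ _ ≫ π j
    refine ⟨⟨g, β ≫ b, l, ?_⟩, hg.symm, by rw [Functor.map_comp, hβ, Category.assoc], fun β' hc h' j => ?_⟩
    · refine (hs.existsUnique_glue β (c := β ≫ b) rfl fun j => (yon S).map g).unique (fun j => ?_) fun j => ?_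
      · rw [← Category.assoc, hl, Category.assoc, Category.assoc, hπ, hg]
      · rw [← Functor.map_comp, secMap_fst_assoc]
    · obtain rfl : β' = β := (yon S).map_injective (h'.symm.trans hβ.symm)
      exact hl j
  -- two lifts with the same values on the pieces agree
  have uniq : ∀ {V : Over S} (s s' : PSec dPr a V) (β : V ⟶ B) (hc : β ≫ b = s.c) (hc' : β ≫ b = s'.c),
      s.g = s'.g → (∀ j, (yon S).map (secMap (σ j) (hσ j) β hc) ≫ s.l = (yon S).map (secMap (σ j) (hσ j) β hc') ≫ s'.l) →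
      s = s' := fun {V} s s' β hc hc' hg h => by
    refine PSec.ext' hg ((Category.id_comp _).trans (hc.symm.trans hc')) ?_
    refine (hs.existsUnique_glue β hc' fun j => (yon S).map (secMap (σ j) (hσ j) β hc') ≫ s'.l).unique
      (fun j => ?_) fun j => rfl
    rw [← h j, ← Functor.map_comp_assoc]
    congr 2
    apply pullback.hom_ext <;> simp
  choose sOf h₁ h₂ h₃ using key
  let π₁ : R ⟶ pSp dPr a := SpQuot16.homOfYon (fun V z => (sOf V z).toHom) (fun {V W} f z => by
    rw [PSec.map_toHom]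
    obtain ⟨β, hβ⟩ := (yon S).map_surjective (z ≫ pullback.snd _ _)
    have hc : β ≫ b = (sOf V z).c := (yon S).map_injective (by
      rw [Functor.map_comp, hβ, ← h₂ V z, Category.assoc])
    have hβ' : ((yon S).map f ≫ z) ≫ pullback.snd _ _ = (yon S).map (f ≫ β) := by
      rw [Category.assoc, ← hβ, Functor.map_comp]
    have hcW : (f ≫ β) ≫ b = (sOf W ((yon S).map f ≫ z)).c := (yon S).map_injective (by
      rw [Functor.map_comp, ← hβ', ← h₂ W, Category.assoc])
    congr 1
    refine uniq _ _ (f ≫ β) hcW (by rw [Category.assoc, hc]) ((yon S).map_injective (by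
      rw [← h₁, Category.assoc, h₁, Functor.map_comp])) fun j => ?_
    rw [h₃ W _ (f ≫ β) hcW hβ' j, Category.assoc, ← h₃ V z β hc hβ.symm j]
    show _ = (yon S).map _ ≫ (yon S).map _ ≫ (sOf V z).l
    rw [← Functor.map_comp_assoc, ← Functor.map_comp_assoc]
    congr 2
    apply pullback.hom_ext <;> simp)
  have hπ₁ : ∀ {V : Over S} (z : (yon S).obj V ⟶ R), z ≫ π₁ = (sOf V z).toHom := fun z =>
    SpQuot16.comp_homOfYon _ _ z
  have hw : π₁ ≫ toC dPr a = pullback.snd _ _ ≫ (yon S).map b := hom_ext_yon fun V z => by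
    rw [← Category.assoc, hπ₁, PSec.toHom_toC, ← h₂]
  have hT : π₁ ≫ toT dPr a = pullback.fst _ _ ≫ q := hom_ext_yon fun V z => by
    rw [← Category.assoc, hπ₁, PSec.toHom_toT, ← h₁]
  refine ⟨R, hR, π₁, pullback.snd _ _, SpQuot16.isPullback_of_yon hw fun V t u h => ?_, ?_⟩
  · obtain ⟨s, rfl⟩ := PSec.exists_toHom t
    obtain ⟨β, rfl⟩ := (yon S).map_surjective u
    have hc : β ≫ b = s.c := (yon S).map_injective (by rw [Functor.map_comp, ← h, PSec.toHom_toC])
    have hl : ∀ j, ((yon S).map (secMap (σ j) (hσ j) β hc) ≫ s.l) ≫ a = (yon S).map s.g := fun j => by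
      rw [Category.assoc, s.hl, ← Functor.map_comp, secMap_fst_assoc]
    obtain ⟨z₀, ⟨hz₁, hz₂⟩, hzu⟩ := hu V s.g _ hl
    let z : (yon S).obj V ⟶ R := pullback.lift z₀ ((yon S).map β) (by
      rw [← Category.assoc, hz₁, ← Functor.map_comp, ← Functor.map_comp]
      exact congrArg (yon S).map (hS₀ _ _))
    have hzs : sOf V z = s := by
      have hg : (sOf V z).g = s.g := (yon S).map_injective (by
        rw [← h₁, pullback.lift_fst_assoc, hz₁])
      have hc' : β ≫ b = (sOf V z).c := (yon S).map_injective (by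
        rw [← h₂, pullback.lift_snd_assoc, Functor.map_comp])
      refine uniq _ _ β hc' hc hg fun j => ?_
      rw [h₃ V z β hc' (pullback.lift_snd _ _ _) j, pullback.lift_fst_assoc, hz₂]
    refine ⟨z, ⟨by rw [hπ₁, hzs], pullback.lift_snd _ _ _⟩, fun w ⟨hw₁, hw₂⟩ => pullback.hom_ext ?_ ?_⟩
    · rw [pullback.lift_fst]
      rw [hπ₁] at hw₁
      have hsw : sOf V w = s := PSec.toHom_injective hw₁
      refine hzu _ ⟨by rw [Category.assoc, h₁, hsw], fun j => ?_⟩
      have hc' : β ≫ b = (sOf V w).c := by rw [hsw, hc]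
      rw [Category.assoc, ← h₃ V w β hc' hw₂ j]
      subst hsw
      rfl
    · rw [hw₂, pullback.lift_snd]
  · rw [hT]
    refine locP_comp hR hQ (IsAlgSpace.yon_obj T) ?_ hq
    refine locP_of_isPullback (IsAlgSpace.yon_obj B) (IsAlgSpace.yon_obj S₀) hQ sq.flip ((StAlg16.locP_yon_iff tB).2 ?_)
    show Smooth B.hom
    rw [← Over.w b]
    infer_instance

/-- The sheaf of lifts along a finite etale surjection is an algebraic space, smooth over the base. -/
theorem pSp_isAlgSpace_smooth (hF : IsAlgSpace F) (ha : LocP @Smooth a) (hC : Smooth C.hom)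
    (hd : IsFinite dPr.left) (he : Etale dPr.left) :
    IsAlgSpace (pSp dPr a) ∧ LocP @Smooth (toT dPr a) := by
  choose B b hb t ht n σ hσ hs using fun s : ↥C.left => exists_split hd he s
  choose R hR fst snd sq hsm using fun s => exists_piece dPr hF ha hC (b s) (hb s) (hs s)
  have hbR : ∀ s, RepWith @Etale ((yon S).map (b s)) := fun s => (repWith_yon_map_iff _ _).2 (hb s)
  have hP : IsAlgSpace (pSp dPr a) := by
    refine isAlgSpace_of_fppf_cover (IsAlgSpace.yon_obj C) (fun s => IsAlgSpace.yon_obj (B s))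
      (g := fun s => (yon S).map (b s)) ⟨fun s => ?_, fun y => ?_⟩ (toC dPr a) fun s => ?_
    · haveI := hb s
      exact ⟨(StAlg16.locP_yon_iff (b s)).2 inferInstance, (StAlg16.locP_yon_iff (b s)).2 inferInstance⟩
    · obtain ⟨y₀, rfl⟩ := (Points.schemeHomeo C).surjective y
      exact ⟨y₀, Points.schemeHomeo (B y₀) (t y₀), (Points.map_yon_map_apply (b y₀) (t y₀)).trans
        (congrArg (Points.schemeHomeo C) (ht y₀))⟩
    · exact (hR s).of_iso (sq s).isoPullback
  refine ⟨hP, ?_⟩
  obtain ⟨W, φ, hφe, hφs⟩ := hP.atlas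
  obtain ⟨h, hh⟩ := (yon S).map_surjective (φ ≫ toT dPr a)
  refine locP_of_one_chart φ (𝟙 _) h hφe hφs (repWith_id _ T) (by rw [Category.comp_id, hh]) ?_
  obtain ⟨k, hk⟩ := (yon S).map_surjective (φ ≫ toC dPr a)
  let e : ∀ s, (pullback k (b s)).left ⟶ W.left := fun s => (pullback.fst k (b s)).left
  haveI he' : ∀ s, Etale (e s) := fun s =>
    MorphismProperty.of_isPullback ((IsPullback.of_hasPullback k (b s)).map (Over.forget S)).flip (hb s)
  have hes : Surjective (Sigma.desc e) := ⟨fun w => by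
    have hsq := ((IsPullback.of_hasPullback k (b (k.left w))).map (Over.forget S))
    obtain ⟨z, hz, -⟩ := Scheme.Pullback.exists_preimage_pullback w (t (k.left w)) (ht (k.left w)).symm
    refine ⟨(Sigma.ι (fun s => (pullback k (b s)).left) (k.left w)) (hsq.isoPullback.inv z), ?_⟩
    refine Eq.trans ?_ ((congrArg (fun f : _ ⟶ W.left => f z) hsq.isoPullback_inv_fst).trans hz)
    exact congrArg (fun f : _ ⟶ W.left => f (hsq.isoPullback.inv z)) (Sigma.ι_desc e (k.left w))⟩
  have hee : Etale (Sigma.desc e) := IsZariskiLocalAtSource.sigmaDesc he'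
  refine EtaleLocal.descends (P := @Smooth) (Sigma.desc e) h.left hee hes ?_
  have hcomp : Sigma.desc e ≫ h.left = Sigma.desc fun s => e s ≫ h.left := Sigma.hom_ext _ _ fun s => by simp
  rw [hcomp]
  refine IsZariskiLocalAtSource.sigmaDesc fun s => ?_
  have sqW := (IsPullback.of_hasPullback k (b s)).map (yon S)
  let ψ : (yon S).obj (pullback k (b s)) ⟶ R s := (sq s).lift ((yon S).map (pullback.fst k (b s)) ≫ φ)
    ((yon S).map (pullback.snd k (b s))) (by rw [Category.assoc, ← hk]; exact sqW.w)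
  have sqψ : IsPullback ((yon S).map (pullback.fst k (b s))) ψ φ (fst s) :=
    IsPullback.of_bot (v₂₁ := snd s) (v₂₂ := toC dPr a) (by
      rw [show ψ ≫ snd s = _ from (sq s).lift_snd _ _ _, ← hk]
      exact sqW) ((sq s).lift_fst _ _ _).symm (sq s)
  have hψ : RepWith @Etale ψ := repWith_of_isPullback sqψ hφe
  have := hsm s ψ (𝟙 _) (pullback.fst k (b s) ≫ h) hψ (repWith_id _ T) (by
    rw [Category.comp_id, ← Category.assoc, ← sqψ.w, Category.assoc, Functor.map_comp, hh])
  rwa [Over.comp_left] at this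

end Groth.Agent.ChartLift16
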