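import Groth.Agent.Lib.IsoNat5.Unramified
import Groth.Agent.Lib.StAlg16.DiagIff
import Groth.Agent.Lib.GeomRed18.Smooth
import Groth.Agent.Lib.AlgSpace.Points

/-!
# Separable points of atlases over field points of stacks
-/

universe u

open CategoryTheory CategoryTheory.Functor CategoryTheory.Limits AlgebraicGeometry Opposite

set_option linter.style.haveILetI false
set_option backward.isDefEq.respectTransparency false
set_option backward.isDefEq.respectTransparency.types false

namespace Groth.Agent.ChartLift16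

open Groth.Agent.FC16 Groth.Agent.StAlg Groth.Agent.IsoNat5

variable {S : Scheme.{u}}

attribute [local instance] Curv2.resAlgebra in
/-- A field point of a stack lifts to a smooth surjective chart after a finite separable extension. -/
theorem exists_separable_lift {𝒳 : AlgSt.Cat S} (h𝒳 : FibCat.IsFibGrpd 𝒳.p) {U : Over S}
    {x : FibCat.overCat U ⥤ᵇ 𝒳} (hsm : AlgSt.RepByAlgSpWith (AlgSp.LocP @Smooth) x)
    (hsu : AlgSt.RepByAlgSpWith AlgSp.IsSurjectiveMor x)
    (k : Type u) [Field k] (sk : Spec (CommRingCat.of k) ⟶ S)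
    (x₀ : FibCat.overCat (Over.mk sk) ⥤ᵇ 𝒳) :
    ∃ (k' : Type u) (_ : Field k') (_ : Algebra k k') (_ : FiniteDimensional k k') (_ : Algebra.IsSeparable k k')
      (u : Over.mk (Spec.map (CommRingCat.ofHom (algebraMap k k')) ≫ sk) ⟶ U),
      Nonempty (Iso1 x u x₀ (Over.homMk (Spec.map (CommRingCat.ofHom (algebraMap k k'))) rfl :
        Over.mk (Spec.map (CommRingCat.ofHom (algebraMap k k')) ≫ sk) ⟶ Over.mk sk)) := by
  obtain ⟨F, e, he, hs, hsu⟩ := StAlg16.with_inf goodP_locP.preIso goodP_surjective.preIso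
    (overCat_isFibGrpd U) h𝒳 hsm hsu (Over.mk sk) x₀
  obtain ⟨A, p, hpe, hps⟩ := F.property.atlas
  let a := AlgSt.spMapOfOver (BasedFunctor.comp e (FibCat.fpFst x₀ x))
  obtain ⟨v, hv⟩ := (AlgSp.yon S).map_surjective (p ≫ a)
  haveI hsmv : Smooth v.left := hs p (𝟙 _) v hpe (AlgSp.repWith_id _ _) (by rw [Category.comp_id, hv])
  obtain ⟨y₀, -⟩ := hsu (AlgSp.Points.ofPt (𝟙 _) (IsLocalRing.closedPoint k : ↥(Over.mk sk : Over S).left))
  obtain ⟨y, -⟩ := AlgSpace.surjective_ofPt hps y₀
  letI : A.left.Over (Spec (CommRingCat.of k)) := ⟨v.left⟩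
  haveI hsm' : Smooth (A.left ↘ Spec (CommRingCat.of k)) := hsmv
  haveI : Smooth ((⊤ : A.left.Opens).ι ≫ (A.left ↘ Spec (CommRingCat.of k))) := inferInstance
  obtain ⟨z, -, -, hfin, hsep⟩ := GeomRed.exists_separable_point (k := k) (⊤ : A.left.Opens) (x := y) trivial
  let al : Spec (A.left.residueField z) ⟶ Spec (CommRingCat.of k) :=
    Spec.map (CommRingCat.ofHom (algebraMap k (A.left.residueField z)))
  have hal : A.left.fromSpecResidueField z ≫ v.left = al := (GeomIrr.spec_resMap k A.left z).symm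
  let q : Over.mk (al ≫ sk) ⟶ A := Over.homMk (A.left.fromSpecResidueField z)
    ((congrArg (A.left.fromSpecResidueField z ≫ ·) (Over.w v).symm).trans
      ((Category.assoc _ _ _).symm.trans (congrArg (· ≫ sk) hal)))
  obtain ⟨u', i, -⟩ := exists_secObjOf he ((AlgSp.yon S).map q ≫ p) (Over.homMk al rfl) (by
    rw [Category.assoc, ← hv, ← Functor.map_comp]
    exact congrArg (AlgSp.yon S).map (Over.OverMorphism.ext hal))
  exact ⟨A.left.residueField z, inferInstance, inferInstance, hfin, hsep, u', ⟨i⟩⟩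

end Groth.Agent.ChartLift16
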