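import Groth.Agent.Lib.ChartLift16.Base
import Groth.Agent.Lib.ChartLift16.Point
import Groth.Agent.Lib.ChartLift16.Rep
import Groth.Agent.Lib.ChartLift16.PAlg
import Groth.Agent.Lib.StAlg16.AtlasEt
import Groth.Agent.Lib.StAlg16.PointsSp
import Groth.Agent.Lib.StAlg16.LocQApps
import Groth.Agent.Lib.StAut14.Apps
import Groth.Agent.Lib.SymPt15.Hens

/-!
# Field points of algebraic stacks lift to smooth affine charts
-/

universe u

open CategoryTheory CategoryTheory.Functor CategoryTheory.Limits AlgebraicGeometry Opposite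

set_option linter.style.haveILetI false
set_option linter.unusedSectionVars false
set_option backward.isDefEq.respectTransparency false
set_option backward.isDefEq.respectTransparency.types false

namespace Groth.Agent.ChartLift16

open Groth.Agent.FC16 Groth.Agent.StAlg Groth.Agent.IsoNat5 AlgSt

variable {S : Scheme.{u}} {C D U : Over S} {dPr : D ⟶ C} {𝒳 : AlgSt.Cat S} {x : FibCat.overCat U ⥤ᵇ 𝒳}

section Cat

variable (h𝒳 : FibCat.IsFibGrpd 𝒳.p) (hx : AlgSt.RepByAlgSpWith (AlgSp.LocP @Smooth) x) (hC : Smooth C.hom)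
  (hd : IsFinite dPr.left) (he : Etale dPr.left)

include h𝒳 hx hC hd he in
theorem forget_with_smooth : AlgSt.RepByAlgSpWith (AlgSp.LocP @Smooth) (forget dPr x) := fun T y => by
  obtain ⟨F, e, hEq, hP⟩ := hx T y
  obtain ⟨hA, hsm⟩ := pSp_isAlgSpace_smooth dPr (a := repMap x y e) F.property hP hC hd he
  exact ⟨⟨pSp dPr (repMap x y e), hA⟩, psi dPr h𝒳 x y hEq, psi_isEquivOver h𝒳 hEq,
    by rw [spMap_psi]; exact hsm⟩

include hx hC hd he in
theorem cat_isStack (hs : Stk.IsStack (QuotSh.J Scheme.etalePrecoverage S) 𝒳) :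
    Stk.IsStack (QuotSh.J Scheme.etalePrecoverage S) (cat dPr x) := by
  refine isStack_of_fp _ (cat_isFibGrpd hs.1) hs (forget dPr x) fun T y => ?_
  obtain ⟨F, e, hEq, -⟩ := forget_with_smooth hs.1 hx hC hd he T y
  exact (isStack_iff_of_isEquivOver _ hEq).1 ((isStack_ofPsh_iff _ _).2 fun W R hR =>
    ((isSheaf_iff_isSheaf_of_type _ _).1 F.obj.property) R (AlgSpace.etale_le_fppf R hR))

include hx hC hd he in
theorem cat_rep (hs : Stk.IsStack (QuotSh.J Scheme.etalePrecoverage S) 𝒳)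
    (hxs : AlgSt.RepByAlgSpWith AlgSp.IsSurjectiveMor x) (hdS : Surjective dPr.left) :
    AlgSt.RepByAlgSp (cat dPr x) := by
  have hst := cat_isStack hx hC hd he hs
  have gU : FibCat.IsFibGrpd (FibCat.fp x (forget dPr x)).p :=
    fp_isFibGrpd (overCat_isFibGrpd U) (cat_isFibGrpd hs.1) hs.1 x (forget dPr x)
  have hU : AlgSt.RepByAlgSp (FibCat.fp x (forget dPr x)) :=
    repByAlgSp1_of_with (forget_with_smooth hs.1 hx hC hd he) U x
  exact StAut14.rep_of_isFibSetoid_etale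
    (StAlg16.isAlgStack_etale_of_cover gU hst hU (with_fpSnd (forget dPr x) hx) (with_fpSnd (forget dPr x) hxs))
    (cat_isFibSetoid hs he hdS)

end Cat

/-- An algebraic space smooth over an algebraic stack to which all field points lift. -/
theorem exists_space_family (h : AlgSt.IsAlgStack Scheme.etalePrecoverage 𝒳) :
    ∃ (W : AlgSp.Space S) (q : AlgSt.ofSp W.obj ⥤ᵇ 𝒳), AlgSt.RepByAlgSpWith (AlgSp.LocP @Smooth) q ∧
      ∀ (k : Type u) [Field k] (sk : Spec (CommRingCat.of k) ⟶ S) (x₀ : FibCat.overCat (Over.mk sk) ⥤ᵇ 𝒳),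
        ∃ w : (AlgSp.yon S).obj (Over.mk sk) ⟶ W.obj,
          Nonempty (BasedFunctor.comp (BasedFunctor.comp (AlgSt.ofOverCat (Over.mk sk)) (AlgSt.ofSpMap w)) q ≅ x₀) := by
  have g := h.isStack.1
  obtain ⟨U, x, hx, hxs⟩ := h.atlas
  obtain ⟨C, D, dPr, hC, hd, he, hdS, hfam⟩ := exists_uniform_family S
  obtain ⟨W, eW, heW⟩ := cat_rep hx hC hd he h.isStack hxs hdS
  refine ⟨W, BasedFunctor.comp eW (forget dPr x), StAlg16.with_comp_equiv heW (forget_with_smooth g hx hC hd he),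
    fun k _ sk x₀ => ?_⟩
  obtain ⟨k', _, _, _, _, u', ⟨i⟩⟩ := exists_separable_lift g hx hxs k sk x₀
  obtain ⟨c, hr⟩ := hfam k sk k'
  obtain ⟨r, hrπ⟩ := hr (dObj dPr c) (pullback.fst c dPr) (pullback.snd c dPr) pullback.condition
  let i' := Iso1.pb g i r rfl hrπ
  let A : Obj dPr x :=
    { base := Over.mk sk
      pt := x₀.obj (Over.mk (𝟙 _))
      hpt := x₀.w_obj _
      c := c
      u := r ≫ u'
      φ := i'.iso.hom ≫ x₀.map (sl (dfst dPr c) (Category.comp_id _))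
      hφ := by
        haveI := i'.lift
        haveI := map_sl_lift x₀ (u' := 𝟙 (Over.mk sk)) (dfst dPr c) (Category.comp_id _)
        infer_instance }
  obtain ⟨⟨B, s⟩, θ, hθ⟩ := essSurjOver_of_isEquivOver heW (A : (cat dPr x).obj)
  have hB : B = Over.mk sk :=
    (eW.w_obj ⟨B, s⟩).symm.trans (@IsHomLift.domain_eq _ _ _ _ _ _ _ _ _ _ _ hθ)
  subst hB
  let w : (AlgSp.yon S).obj (Over.mk sk) ⟶ W.obj := AlgSpace.sect.symm s
  have hs : s = w.hom.app (op (Over.mk sk)) ⟨𝟙 _⟩ := by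
    rw [show (⟨𝟙 _⟩ : ((AlgSp.yon S).obj (Over.mk sk)).obj.obj (op (Over.mk sk))) =
      AlgSpace.sect ((AlgSp.yon S).map (𝟙 _)) from
        (GrothendieckTopology.uliftYonedaEquiv_uliftYoneda_map _ _).symm, ← SpQuot16.sect_comp,
      CategoryTheory.Functor.map_id, Category.id_comp]
    exact (AlgSpace.sect.apply_symm_apply s).symm
  have key : ∀ (s' : W.obj.obj.obj (op (Over.mk sk))) (_ : s = s'), ∃ e : (forget dPr x).obj (eW.obj ⟨Over.mk sk, s'⟩) ≅
      x₀.obj (Over.mk (𝟙 (Over.mk sk))), 𝒳.p.IsHomLift (𝟙 (Over.mk sk)) e.hom := by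
    rintro s' rfl
    exact ⟨(forget dPr x).toFunctor.mapIso θ, @BasedFunctor.preserves_isHomLift _ _ _ _ (forget dPr x) _ _ _ _ _ _ hθ⟩
  obtain ⟨e, hel⟩ := key _ hs
  let p := BasedFunctor.comp (BasedFunctor.comp (AlgSt.ofOverCat (Over.mk sk)) (AlgSt.ofSpMap w))
    (BasedFunctor.comp eW (forget dPr x))
  let ep : p.obj (Over.mk (𝟙 (Over.mk sk))) ≅ x₀.obj (Over.mk (𝟙 (Over.mk sk))) := e
  obtain ⟨j, -⟩ := exists_iso (presCart_of_isFibGrpd g p) (presCart_of_isFibGrpd g x₀) ep hel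
  exact ⟨w, ⟨j⟩⟩

/-- composition with a chart of a space smooth over the stack -/
theorem with_chart {W : AlgSp.Space S} {q : AlgSt.ofSp W.obj ⥤ᵇ 𝒳}
    (hq : AlgSt.RepByAlgSpWith (AlgSp.LocP @Smooth) q) {Z : Over S} {φ : (AlgSp.yon S).obj Z ⟶ W.obj}
    (hφ : AlgSp.RepWith @Etale φ) :
    AlgSt.RepByAlgSpWith (AlgSp.LocP @Smooth)
      (BasedFunctor.comp (BasedFunctor.comp (AlgSt.ofOverCat Z) (AlgSt.ofSpMap φ)) q) :=
  with_comp goodP_locP (overCat_isFibGrpd Z) (isStack_ofSp W.obj).1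
    (StAlg16.with_comp_equiv (ofOverCat_isEquivOver Z) (StAlg16.with_locP_ofSpMap (AlgSp.IsAlgSpace.yon_obj Z)
      W.property φ (AlgSpace.locP_mono AlgSpace.EtaleLocal.etale_le (AlgSpace.locP_of_repWith W.property hφ)))) hq

/-- a point of a chart, read in the stack -/
theorem nonempty_chart_pt {W : AlgSp.Space S} {q : AlgSt.ofSp W.obj ⥤ᵇ 𝒳} {Z T : Over S}
    {φ : (AlgSp.yon S).obj Z ⟶ W.obj} (u : T ⟶ Z) {w : (AlgSp.yon S).obj T ⟶ W.obj}
    (h : (AlgSp.yon S).map u ≫ φ = w) :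
    Nonempty (BasedFunctor.comp (AlgSt.overMap u) (BasedFunctor.comp (BasedFunctor.comp (AlgSt.ofOverCat Z) (AlgSt.ofSpMap φ)) q) ≅
      BasedFunctor.comp (BasedFunctor.comp (AlgSt.ofOverCat T) (AlgSt.ofSpMap w)) q) :=
  ⟨wrIso (wrIso (StAlg16.ofOverMapIso u) (AlgSt.ofSpMap φ)) q ≪≫
    wrIso (wlIso (AlgSt.ofOverCat T) (StAlg16.ofSpMapComp _ _ ≪≫ eqToIso (congrArg AlgSt.ofSpMap h))) q⟩

/-- Field points of algebraic stacks for the etale topology lift to smooth affine charts. -/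
theorem exists_affine_chart_lift (h : AlgSt.IsAlgStack Scheme.etalePrecoverage 𝒳) (k : Type u) [Field k]
    (sk : Spec (CommRingCat.of k) ⟶ S) (x₀ : FibCat.overCat (Over.mk sk) ⥤ᵇ 𝒳) :
    ∃ (Z : Over S) (_ : IsAffine Z.left) (p : FibCat.overCat Z ⥤ᵇ 𝒳) (u : Over.mk sk ⟶ Z),
      AlgSt.RepByAlgSpWith (AlgSp.LocP @Smooth) p ∧
        Nonempty (BasedFunctor.comp (AlgSt.overMap u) p ≅ x₀) := by
  obtain ⟨W, q, hq, hl⟩ := exists_space_family h
  obtain ⟨w, ⟨i⟩⟩ := hl k sk x₀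
  obtain ⟨Z, φ, u, hZ, hφ, hu⟩ := SymPt15.exists_affine_lift W.property k sk w
  obtain ⟨j⟩ := nonempty_chart_pt (q := q) u hu
  exact ⟨Z, hZ, _, u, with_chart hq hφ, ⟨j ≪≫ i⟩⟩

/-- A separated smooth chart to which all field points lift. -/
theorem exists_separated_chart_family (h : AlgSt.IsAlgStack Scheme.etalePrecoverage 𝒳) :
    ∃ (Z : Over S) (p : FibCat.overCat Z ⥤ᵇ 𝒳), IsSeparated Z.hom ∧ AlgSt.RepByAlgSpWith (AlgSp.LocP @Smooth) p ∧
      ∀ (k : Type u) [Field k] (sk : Spec (CommRingCat.of k) ⟶ S) (x₀ : FibCat.overCat (Over.mk sk) ⥤ᵇ 𝒳),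
        ∃ u : Over.mk sk ⟶ Z, Nonempty (BasedFunctor.comp (AlgSt.overMap u) p ≅ x₀) := by
  obtain ⟨W, q, hq, hl⟩ := exists_space_family h
  obtain ⟨ι, V, v, hsep, het, hV⟩ := SymPt15.exists_separated_family W.property
  obtain ⟨Z, j, φ, hj, hZ, -, hφ⟩ := SymPt15.exists_scheme_sigma_chart V v het W.property
  refine ⟨Z, _, hZ hsep, with_chart hq hφ, fun k _ sk x₀ => ?_⟩
  obtain ⟨w, ⟨i⟩⟩ := hl k sk x₀
  obtain ⟨m, g, hg⟩ := hV k sk w
  obtain ⟨t⟩ := nonempty_chart_pt (q := q) (φ := φ) (g ≫ j m)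
    (show (AlgSp.yon S).map (g ≫ j m) ≫ φ = w by rw [Functor.map_comp, Category.assoc, hj, hg])
  exact ⟨g ≫ j m, ⟨t ≪≫ i⟩⟩

end Groth.Agent.ChartLift16
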