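import Groth.Agent.Lib.ChartLift16.PSheaf
import Groth.Agent.Lib.AlgSpace.Coprod
import Groth.Agent.S9559

/-!
# Etale local splitting of a finite etale map
-/

universe u

open CategoryTheory CategoryTheory.Limits AlgebraicGeometry Opposite

set_option linter.style.haveILetI false
set_option linter.unusedSectionVars false
set_option backward.isDefEq.respectTransparency false
set_option backward.isDefEq.respectTransparency.types false

namespace Groth.Agent.ChartLift16

open AlgSp

variable {S : Scheme.{u}} {C D : Over S} {dPr : D ⟶ C}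

/-- the section of the pulled back cover given by a section over a split base -/
noncomputable def secMap {B T' : Over S} {b : B ⟶ C} (σ : B ⟶ D) (hσ : σ ≫ dPr = b) (β : T' ⟶ B) {c : T' ⟶ C}
    (hc : β ≫ b = c) : T' ⟶ dObj dPr c :=
  pullback.lift (𝟙 T') (β ≫ σ) (by rw [Category.id_comp, Category.assoc, hσ, hc])

@[reassoc (attr := simp)]
theorem secMap_fst {B T' : Over S} {b : B ⟶ C} (σ : B ⟶ D) (hσ : σ ≫ dPr = b) (β : T' ⟶ B) {c : T' ⟶ C}
    (hc : β ≫ b = c) : secMap σ hσ β hc ≫ pullback.fst c dPr = 𝟙 T' := pullback.lift_fst _ _ _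

@[reassoc (attr := simp)]
theorem secMap_snd {B T' : Over S} {b : B ⟶ C} (σ : B ⟶ D) (hσ : σ ≫ dPr = b) (β : T' ⟶ B) {c : T' ⟶ C}
    (hc : β ≫ b = c) : secMap σ hσ β hc ≫ pullback.snd c dPr = β ≫ σ := pullback.lift_snd _ _ _

/-- splitting data: the sections cut the pulled back cover into pieces -/
def IsSplit (dPr : D ⟶ C) {B : Over S} (b : B ⟶ C) {n : ℕ} (σ : Fin n → (B ⟶ D))
    (hσ : ∀ j, σ j ≫ dPr = b) : Prop :=
  ∀ ⦃T' : Over S⦄ (β : T' ⟶ B) (c : T' ⟶ C) (hc : β ≫ b = c),
    (∀ j, IsOpenImmersion (secMap (σ j) (hσ j) β hc).left) ∧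
      (∀ z, ∃ j t, (secMap (σ j) (hσ j) β hc).left t = z) ∧
      ∀ i j, i ≠ j → ∀ y z, (secMap (σ i) (hσ i) β hc).left y ≠ (secMap (σ j) (hσ j) β hc).left z

theorem exists_split (hf : IsFinite dPr.left) (he : Etale dPr.left) (s : ↥C.left) :
    ∃ (B : Over S) (b : B ⟶ C) (_ : Etale b.left) (t : ↥B.left) (_ : b.left t = s) (n : ℕ)
      (σ : Fin n → (B ⟶ D)) (hσ : ∀ j, σ j ≫ dPr = b), IsSplit dPr b σ hσ := by
  obtain ⟨U, g, hg, t, hts, n, V, cc, hcc, e, hV⟩ := S9559.result dPr.left s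
  haveI := hcc
  let B : Over S := Over.mk (g ≫ C.hom)
  let b : B ⟶ C := Over.homMk g rfl
  let incl : Fin n → (U ⟶ pullback dPr.left g) := fun j => inv (cc j) ≫ Sigma.ι V j ≫ e.hom
  have hincl : ∀ j, incl j ≫ pullback.snd dPr.left g = 𝟙 U := fun j => by
    simp only [incl, Category.assoc, hV, IsIso.inv_hom_id]
  have hσ' : ∀ j, (incl j ≫ pullback.fst dPr.left g) ≫ dPr.left = g := fun j => by
    rw [Category.assoc, pullback.condition, ← Category.assoc, hincl, Category.id_comp]
  let σ : Fin n → (B ⟶ D) := fun j => Over.homMk (incl j ≫ pullback.fst dPr.left g) (by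
    rw [← Over.w dPr, ← Category.assoc, hσ' j]; rfl)
  have hσ : ∀ j, σ j ≫ dPr = b := fun j => Over.OverMorphism.ext (hσ' j)
  refine ⟨B, b, hg, t, hts, n, σ, hσ, fun T' β c hc => ?_⟩
  let Z := dObj dPr c
  let m : Z.left ⟶ pullback dPr.left g :=
    pullback.lift (pullback.snd c dPr).left ((pullback.fst c dPr).left ≫ β.left) (by
      rw [Category.assoc, show β.left ≫ g = c.left from congrArg CommaMorphism.left hc, ← Over.comp_left,
        ← Over.comp_left, pullback.condition])
  have sqZ : IsPullback (pullback.fst c dPr).left m β.left (pullback.snd dPr.left g) := by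
    have h₁ := ((IsPullback.of_hasPullback c dPr).map (Over.forget S))
    have h₂ := (IsPullback.of_hasPullback dPr.left g).flip
    refine IsPullback.of_bot (v₂₁ := pullback.fst dPr.left g) ?_ (pullback.lift_snd _ _ _).symm h₂
    rw [show m ≫ pullback.fst dPr.left g = (pullback.snd c dPr).left from pullback.lift_fst _ _ _]
    rw [show β.left ≫ g = c.left from congrArg CommaMorphism.left hc]
    exact h₁
  have hs : ∀ j, IsPullback (secMap (σ j) (hσ j) β hc).left β.left m (incl j) := fun j => by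
    have e1 : (secMap (σ j) (hσ j) β hc).left ≫ m = β.left ≫ incl j := by
      apply pullback.hom_ext
      · rw [Category.assoc, pullback.lift_fst, ← Over.comp_left, secMap_snd]
        exact (Category.assoc _ _ _).symm
      · rw [Category.assoc, pullback.lift_snd, ← Category.assoc, ← Over.comp_left, secMap_fst, Category.assoc,
          hincl]
        exact (Category.id_comp _).trans (Category.comp_id _).symm
    refine IsPullback.of_right (h₁₂ := (pullback.fst c dPr).left) (h₂₂ := pullback.snd dPr.left g) ?_ e1 sqZ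
    rw [← Over.comp_left, secMap_fst, hincl]
    haveI : IsIso ((𝟙 T' : T' ⟶ T').left) := inferInstanceAs (IsIso (𝟙 T'.left))
    haveI : IsIso (𝟙 U : U ⟶ U) := IsIso.id U
    exact IsPullback.of_horiz_isIso ⟨(Category.id_comp _).trans (Category.comp_id _).symm⟩
  have hopen : ∀ j, IsOpenImmersion (incl j) := fun j =>
    inferInstanceAs (IsOpenImmersion (inv (cc j) ≫ Sigma.ι V j ≫ e.hom))
  have hrange : ∀ j z, (∃ y, (secMap (σ j) (hσ j) β hc).left y = z) ↔ ∃ y, (incl j) y = m z := by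
    intro j z
    constructor
    · rintro ⟨y, rfl⟩
      exact ⟨β.left y, (congrArg (fun f : T'.left ⟶ _ => f y) (hs j).w).symm⟩
    · intro hz
      have h : z ∈ m ⁻¹' Set.range (incl j) := hz
      rw [← Scheme.Pullback.range_fst] at h
      obtain ⟨w, hw⟩ := h
      refine ⟨(hs j).isoPullback.inv w, ?_⟩
      rw [← hw, ← Scheme.Hom.comp_apply, IsPullback.isoPullback_inv_fst]
  refine ⟨fun j => MorphismProperty.of_isPullback (hs j).flip (hopen j), fun z => ?_, fun i j hij y z h => ?_⟩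
  · obtain ⟨j, v, hv⟩ : ∃ j v, (Sigma.ι V j ≫ e.hom) v = m z := by
      obtain ⟨w, hw⟩ : ∃ w, e.hom w = m z := ⟨e.inv (m z), by rw [← Scheme.Hom.comp_apply, e.inv_hom_id]; rfl⟩
      obtain ⟨j, v, hv⟩ := (sigmaOpenCover V).exists_eq w
      exact ⟨j, v, by rw [← hw, ← hv]; rfl⟩
    exact ⟨j, (hrange j z).2 ⟨cc j v, by
      rw [← hv, ← Scheme.Hom.comp_apply]
      simp [incl]⟩⟩
  · obtain ⟨y', hy'⟩ := (hrange i _).1 ⟨y, rfl⟩
    obtain ⟨z', hz'⟩ := (hrange j _).1 ⟨z, rfl⟩
    rw [← h] at hz'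
    have he' : e.hom (Sigma.ι V i (inv (cc i) y')) = e.hom (Sigma.ι V j (inv (cc j) z')) := by
      simp only [← Scheme.Hom.comp_apply, Category.assoc]
      exact hy'.trans hz'.symm
    have h2 := e.hom.homeomorph.injective he'
    exact hij (congrArg Sigma.fst ((sigmaι_eq_iff V _ _ _ _).1 h2))

theorem IsSplit.existsUnique_glue {B : Over S} {b : B ⟶ C} {n : ℕ} {σ : Fin n → (B ⟶ D)}
    {hσ : ∀ j, σ j ≫ dPr = b} (h : IsSplit dPr b σ hσ) {T' : Over S} (β : T' ⟶ B) {c : T' ⟶ C} (hc : β ≫ b = c)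
    {F : Sp S} (l : Fin n → ((yon S).obj T' ⟶ F)) :
    ∃! z : (yon S).obj (dObj dPr c) ⟶ F, ∀ j, (yon S).map (secMap (σ j) (hσ j) β hc) ≫ z = l j := by
  obtain ⟨ho, hcov, hd⟩ := h β c hc
  let π : ULift.{u} (Fin n) → (T' ⟶ dObj dPr c) := fun j => secMap (σ j.down) (hσ j.down) β hc
  obtain ⟨z, hz, hu⟩ := AlgSpace.existsUnique_glue (T' := fun _ : ULift.{u} (Fin n) => T') π
    (fun j => ho j.down) (fun t => by obtain ⟨j, v, hv⟩ := hcov t; exact ⟨⟨j⟩, v, hv⟩)
    (fun j => l j.down) (fun i j W a a' e => by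
      obtain ⟨i⟩ := i
      obtain ⟨j⟩ := j
      by_cases hij : i = j
      · subst hij
        obtain rfl : a = a' := by simpa [π] using congrArg (· ≫ pullback.fst c dPr) e
        rfl
      · haveI : IsEmpty ↥W.left := ⟨fun w => hd i j hij (a.left w) (a'.left w)
          (congrArg (fun f : W ⟶ _ => f.left w) e)⟩
        exact AlgSpace.hom_ext_of_isEmpty _ _)
  exact ⟨z, fun j => hz ⟨j⟩, fun z' hz' => hu z' fun j => hz' j.down⟩

end Groth.Agent.ChartLift16
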